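import Mathlib.GroupTheory.Perm.Basic
import Mathlib.GroupTheory.OrderOfElement
import Mathlib.Algebra.Group.Subgroup.Lattice
import Mathlib.Tactic

/-!
# Involutions with products of order 1, 2 or a prime `p ≥ 5`

`Base p D`: non-commuting members of the set `D` of involutions have product of order `p`.

* `Base.commute_of_commute_mul`: a member centralising `a * b` centralises `a` and `b`;
* `Bad a b d`: `a`, `b` commute, `d` commutes with neither, and `d ^ (a * b)` does not commute with `d`;
* `Base.exists_third`: then a third `e` makes `a * b * e` centralise `⟨a, b, d⟩`;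
* `Base.exists_quad`: if no such `d` exists, `{a, b}` extends to a quad with `c * c' = a * b`;
* `Base.quad_bad`: a quad and a member commuting with exactly one of `a`, `b` give a bad triple.
-/

set_option autoImplicit false

namespace Cfsg.Agent.RankThreeInvolutions

open Subgroup

variable {G : Type*} [Group G]

/-- The configuration. -/
structure Base (p : ℕ) (D : Set G) : Prop where
  prime : p.Prime
  five : 5 ≤ p
  inv : ∀ a ∈ D, a * a = 1
  ne : ∀ a ∈ D, a ≠ 1
  conj : ∀ a ∈ D, ∀ b ∈ D, b * a * b ∈ D
  prod : ∀ a ∈ D, ∀ b ∈ D, ¬ Commute a b → (a * b) ^ p = 1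

/-- A bad triple. -/
structure Bad (D : Set G) (a b d : G) : Prop where
  ha : a ∈ D
  hb : b ∈ D
  hd : d ∈ D
  ne : a ≠ b
  comm : Commute a b
  da : ¬ Commute d a
  db : ¬ Commute d b
  bad : ¬ Commute (a * b * d * (a * b)) d

/-- A quad. -/
structure Quad (D : Set G) (a b c c' : G) : Prop where
  hc : c ∈ D
  hc' : c' ∈ D
  eq : c * c' = a * b
  ac : Commute a c
  bc : Commute b c
  cc' : Commute c c'
  ne_a : c ≠ a
  ne_b : c ≠ b
  ne_a' : c' ≠ a
  ne_b' : c' ≠ b

theorem commute_mul_self {a b : G} (ha : a * a = 1) (hb : b * b = 1) (h : Commute a b) :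
    a * b * (a * b) = 1 := by
  rw [show a * b * (a * b) = a * (b * a) * b by group, ← h.eq]
  calc a * (a * b) * b = (a * a) * (b * b) := by group
    _ = 1 := by rw [ha, hb, one_mul]

namespace Base

variable {p : ℕ} {D : Set G} (h : Base p D)

include h

theorem inv_eq {a : G} (ha : a ∈ D) : a⁻¹ = a := inv_eq_of_mul_eq_one_right (h.inv a ha)

theorem cancel {a : G} (ha : a ∈ D) (x : G) : a * (a * x) = x := by
  rw [← mul_assoc, h.inv a ha, one_mul]

theorem cancel' {a : G} (ha : a ∈ D) (x : G) : x * a * a = x := by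
  rw [mul_assoc, h.inv a ha, mul_one]

theorem sq_ne {a b : G} (ha : a ∈ D) (hb : b ∈ D) (hab : ¬ Commute a b) : a * b * (a * b) ≠ 1 := by
  intro e
  refine hab ?_
  have h1 := inv_eq_of_mul_eq_one_right e
  rw [mul_inv_rev, h.inv_eq ha, h.inv_eq hb] at h1
  exact h1.symm

theorem orderOf_eq {a b : G} (ha : a ∈ D) (hb : b ∈ D) (hab : ¬ Commute a b) :
    orderOf (a * b) = p := by
  have := Fact.mk h.prime
  refine orderOf_eq_prime (h.prod a ha b hb hab) fun e => h.sq_ne ha hb hab (by rw [e, one_mul])

/-- `k` with `2 k ≡ 1 (mod p)`. -/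
theorem half {r : G} (hr : r ^ p = 1) : r ^ ((p + 1) / 2) * r ^ ((p + 1) / 2) = r := by
  obtain ⟨i, hi⟩ := h.prime.odd_of_ne_two (by have := h.five; omega)
  rw [← pow_add, show (p + 1) / 2 + (p + 1) / 2 = p + 1 by omega, pow_succ, hr, one_mul]

/-- A `p`-element inverting a `p`-element which it centralises... -/
theorem eq_one_of_sq {r : G} (hr : r ^ p = 1) (h2 : r * r = 1) : r = 1 := by
  rw [← h.half hr, ← (Commute.refl r).mul_pow, h2, one_pow]

theorem commute_of_sq {r x : G} (hr : r ^ p = 1) (hx : Commute (r * r) x) : Commute r x := by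
  rw [← h.half hr, ← (Commute.refl r).mul_pow]
  exact hx.pow_left _

/-- The members of the line through `a` and `b`. -/
theorem pow_mul_mem {a b : G} (ha : a ∈ D) (hb : b ∈ D) (hab : ¬ Commute a b) (i : ℕ) :
    (a * b) ^ i * b ∈ D := by
  have hstep : ∀ k : ℕ, (a * b) ^ (2 * k) * b ∈ D := by
    intro k
    induction k with
    | zero => simpa using hb
    | succ k ih =>
      have h1 := h.conj _ (h.conj _ ih b hb) a ha
      have e : a * (b * ((a * b) ^ (2 * k) * b) * b) * a = (a * b) ^ (2 * (k + 1)) * b := by
        calc a * (b * ((a * b) ^ (2 * k) * b) * b) * a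
            = (a * b) * (a * b) ^ (2 * k) * (b * b) * a := by group
          _ = (a * b) ^ (2 * k + 1) * a := by rw [h.inv b hb, mul_one, ← pow_succ']
          _ = (a * b) ^ (2 * k + 1) * (a * b) * b := by rw [mul_assoc, h.cancel' hb]
          _ = (a * b) ^ (2 * (k + 1)) * b := by rw [← pow_succ]; ring_nf
      rwa [e] at h1
  obtain ⟨j, hj⟩ := h.prime.odd_of_ne_two (by have := h.five; omega)
  rcases Nat.even_or_odd' i with ⟨k, rfl | rfl⟩
  · exact hstep k
  · have e : (a * b) ^ (2 * k + 1) = (a * b) ^ (2 * (k + j + 1)) := by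
      rw [show 2 * (k + j + 1) = 2 * k + 1 + p by omega, pow_add _ (2 * k + 1) p,
        h.prod a ha b hb hab, mul_one]
    rw [e]
    exact hstep _

/-- The midpoint. -/
def mid (_h : Base p D) (z a : G) : G := (z * a) ^ ((p + 1) / 2) * a

theorem mid_mem {z a : G} (hz : z ∈ D) (ha : a ∈ D) (hza : ¬ Commute z a) : h.mid z a ∈ D :=
  h.pow_mul_mem hz ha hza _

theorem mid_mem_closure (z a : G) : h.mid z a ∈ closure ({z, a} : Set G) :=
  mul_mem (pow_mem (mul_mem (subset_closure (by simp)) (subset_closure (by simp))) _)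
    (subset_closure (by simp))

theorem mid_conj {z a : G} (hz : z ∈ D) (ha : a ∈ D) (hza : ¬ Commute z a) :
    h.mid z a * a * h.mid z a = z := by
  rw [mid, mul_assoc _ a a, h.inv a ha, mul_one, ← mul_assoc, h.half (h.prod z hz a ha hza),
    h.cancel' ha]

/-- The conjugate of one of two non-commuting members by the other. -/
theorem not_commute_conj {a b : G} (ha : a ∈ D) (hb : b ∈ D) (hab : ¬ Commute a b) :
    ¬ Commute (b * a * b) a := by
  intro hc
  have h2 : (b * a) * (b * a) * ((b * a) * (b * a)) = 1 := by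
    have h1 := commute_mul_self (h.inv _ (h.conj a ha b hb)) (h.inv a ha) hc
    calc (b * a) * (b * a) * ((b * a) * (b * a)) = b * a * b * a * (b * a * b * a) := by group
      _ = 1 := h1
  have hba : (b * a) ^ p = 1 := h.prod b hb a ha fun e => hab e.symm
  exact h.sq_ne hb ha (fun e => hab e.symm)
    (h.eq_one_of_sq (by rw [(Commute.refl (b * a)).mul_pow, hba, one_mul]) h2)

theorem commute_of_commute_mul {a b f : G} (ha : a ∈ D) (hb : b ∈ D) (hf : f ∈ D) (hne : a ≠ b)
    (hab : Commute a b) (hfu : Commute f (a * b)) : Commute f a ∧ Commute f b := by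
  by_cases hfa : Commute f a
  · refine ⟨hfa, ?_⟩
    rw [← h.cancel ha b]
    exact hfa.mul_right hfu
  · exfalso
    have hfb : ¬ Commute f b := fun e => hfa (by
      rw [← h.cancel' hb a]
      exact hfu.mul_right e)
    have e1 : f * a * (f * a) = f * b * (f * b) := by
      have h1 : a * f * a = b * f * b := by
        calc a * f * a = a * (f * (a * b)) * b := by
              rw [show a * (f * (a * b)) * b = a * f * (a * (b * b)) by group, h.inv b hb, mul_one]
          _ = a * a * (b * f * b) := by rw [hfu.eq]; group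
          _ = b * f * b := by rw [h.inv a ha, one_mul]
      calc f * a * (f * a) = f * (a * f * a) := by group
        _ = f * b * (f * b) := by rw [h1]; group
    have e2 : f * a = f * b := by
      rw [← h.half (h.prod f hf a ha hfa), ← h.half (h.prod f hf b hb hfb),
        ← (Commute.refl (f * a)).mul_pow, ← (Commute.refl (f * b)).mul_pow, e1]
    exact hne (mul_left_cancel e2)

/-- No member outside the clique centralises the product of two non-commuting ones. -/
theorem commute_of_commute_rot {d e z : G} (hd : d ∈ D) (he : e ∈ D) (hz : z ∈ D)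
    (hde : ¬ Commute d e) (hw : Commute z (d * e)) : Commute z d ∧ Commute z e := by
  by_cases hzd : Commute z d
  · refine ⟨hzd, ?_⟩
    rw [← h.cancel hd e]
    exact hzd.mul_right hw
  · exfalso
    set g := z * d with hg
    set w := d * e with hwdef
    have hinv : d * w * d = w⁻¹ := by
      rw [hwdef, mul_inv_rev, h.inv_eq hd, h.inv_eq he, h.cancel hd]
    have h1 : g * w * g⁻¹ = w⁻¹ := by
      calc g * w * g⁻¹ = z * (d * w * d) * z := by
            rw [hg, mul_inv_rev, h.inv_eq hd, h.inv_eq hz]; group
        _ = z * z * w⁻¹ := by rw [hinv, mul_assoc z w⁻¹ z, ← hw.inv_right.eq, ← mul_assoc]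
        _ = w⁻¹ := by rw [h.inv z hz, one_mul]
    have h2 : Commute (g * g) w := by
      have : g * g * w * (g * g)⁻¹ = w := by
        calc g * g * w * (g * g)⁻¹ = g * (g * w * g⁻¹) * g⁻¹ := by group
          _ = g * w⁻¹ * g⁻¹ := by rw [h1]
          _ = (g * w * g⁻¹)⁻¹ := by group
          _ = w := by rw [h1, inv_inv]
      exact mul_inv_eq_iff_eq_mul.1 this
    have h3 : Commute g w := h.commute_of_sq (h.prod z hz d hd hzd) h2
    rw [h3.eq, mul_inv_cancel_right] at h1
    exact h.sq_ne hd he hde (by rw [← hwdef]; nth_rewrite 2 [h1]; exact mul_inv_cancel w)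

/-- The third member of a bad triple. -/
theorem exists_third {a b d : G} (hbad : Bad D a b d) :
    ∃ e ∈ D, e ∈ closure ({a, b, d} : Set G) ∧ Commute a e ∧ Commute b e ∧ e ≠ a ∧ e ≠ b ∧
      ¬ Commute d e ∧ a * b * e ∈ centralizer ({a, b, d} : Set G) := by
  obtain ⟨ha, hb, hd, hne, hab, hda, hdb, hbd⟩ := hbad
  set u := a * b with hu
  have hu2 : u * u = 1 := commute_mul_self (h.inv a ha) (h.inv b hb) hab
  have hud : u * d * u ∈ D := by
    have h1 := h.conj _ (h.conj d hd b hb) a ha
    rwa [show a * (b * d * b) * a = u * d * u by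
      rw [hu, show a * (b * d * b) * a = a * b * d * (b * a) by group, ← hab.eq]] at h1
  set r := u * d * u * d with hr
  have hrp : r ^ p = 1 := h.prod _ hud d hd hbd
  set e := h.mid (u * d * u) d with he
  have heD : e ∈ D := h.mid_mem hud hd hbd
  have hede : e * d * e = u * d * u := h.mid_conj hud hd hbd
  have hur : u * r * u = r⁻¹ := by
    rw [hr, mul_inv_rev, h.inv_eq hd, h.inv_eq hud]
    calc u * (u * d * u * d) * u = (u * u) * d * (u * d * u) := by group
      _ = d * (u * d * u) := by rw [hu2, one_mul]
  have heu : Commute e u := by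
    have hpow : ∀ i : ℕ, u * r ^ i * u = r⁻¹ ^ i := by
      intro i
      induction i with
      | zero => simp [hu2]
      | succ i ih =>
        calc u * r ^ (i + 1) * u = (u * r ^ i * u) * (u * r * u) := by
              rw [show (u * r ^ i * u) * (u * r * u) = u * r ^ i * (u * u) * r * u by group, hu2]
              group
          _ = r⁻¹ ^ (i + 1) := by rw [ih, hur, pow_succ]
    set k := (p + 1) / 2
    have e1 : r⁻¹ ^ k * r = r ^ k := by
      nth_rewrite 2 [← h.half hrp]
      rw [inv_pow, inv_mul_cancel_left]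
    have he' : e = r ^ k * d := rfl
    have e2 : u * e * u = e := by
      calc u * e * u = (u * r ^ k * u) * (u * d * u) := by
            rw [he', show (u * r ^ k * u) * (u * d * u) = u * r ^ k * (u * u) * d * u by group, hu2,
              mul_one]
            group
        _ = r⁻¹ ^ k * (r * d) := by rw [hpow, hr, h.cancel' hd]
        _ = e := by rw [← mul_assoc, e1, he']
    show e * u = u * e
    calc e * u = u * e * u * u := by rw [e2]
      _ = u * e := by rw [mul_assoc, hu2, mul_one]
  obtain ⟨hea, heb⟩ := h.commute_of_commute_mul ha hb heD hne hab heu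
  have hcd : Commute (u * e) d := by
    show u * e * d = d * (u * e)
    calc u * e * d = u * (e * d * e) * e := by
          rw [show u * (e * d * e) * e = u * e * d * (e * e) by group, h.inv e heD, mul_one]
      _ = (u * u) * d * (u * e) := by rw [hede]; group
      _ = d * (u * e) := by rw [hu2, one_mul]
  refine ⟨e, heD, ?_, hea.symm, heb.symm, fun e0 => hdb ?_, fun e0 => hda ?_, fun hc => hbd ?_, ?_⟩
  · refine (closure_le _).2 ?_ (h.mid_mem_closure _ _)
    have hamem : a ∈ closure ({a, b, d} : Set G) := subset_closure (by simp)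
    have hbmem : b ∈ closure ({a, b, d} : Set G) := subset_closure (by simp)
    have hdmem : d ∈ closure ({a, b, d} : Set G) := subset_closure (by simp)
    rintro x (rfl | rfl)
    · exact mul_mem (mul_mem (mul_mem hamem hbmem) hdmem) (mul_mem hamem hbmem)
    · exact hdmem
  · rw [e0, hu, hab.eq, h.cancel' ha] at hcd
    exact hcd.symm
  · rw [e0, hu, h.cancel' hb] at hcd
    exact hcd.symm
  · rw [← hede, ← hc.eq, h.cancel' heD]
  · rw [mem_centralizer_iff]
    rintro x (rfl | rfl | rfl)
    · exact (((Commute.refl x).mul_right hab).mul_right hea.symm).eq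
    · exact ((hab.symm.mul_right (Commute.refl x)).mul_right heb.symm).eq
    · exact hcd.symm.eq

/-- Without bad triples on `{a, b}` there is a quad. -/
theorem exists_quad {a b d : G} (ha : a ∈ D) (hb : b ∈ D) (hd : d ∈ D) (hne : a ≠ b)
    (hab : Commute a b) (hda : ¬ Commute d a) (hdb : ¬ Commute d b)
    (hgood : ∀ x ∈ closure ({a, b, d} : Set G), ¬ Bad D a b x) :
    ∃ c c', c ∈ closure ({a, b, d} : Set G) ∧ Quad D a b c c' := by
  set u := a * b with hu
  have hu2 : u * u = 1 := commute_mul_self (h.inv a ha) (h.inv b hb) hab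
  have hu1 : u ≠ 1 := fun e => hne (by rw [← h.cancel' hb a, ← hu, e, one_mul])
  set K := closure ({a, b, d} : Set G) with hK
  have hamem : a ∈ K := subset_closure (by simp)
  have hbmem : b ∈ K := subset_closure (by simp)
  have hdmem : d ∈ K := subset_closure (by simp)
  have hau : Commute a u := (Commute.refl a).mul_right hab
  by_contra hcon
  push Not at hcon
  -- the members of the line
  have key : ∀ x ∈ D, x ∈ K → ¬ Commute x a → ¬ Commute x b →
      a * (x * u * x) * a * (x * u * x) = u ∧ Commute (x * u * x) u := by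
    intro x hx hxK hxa hxb
    set y := u * x * u with hy
    have hyD : y ∈ D := by
      have h1 := h.conj _ (h.conj x hx b hb) a ha
      rwa [show a * (b * x * b) * a = y by
        rw [hy, hu, show a * (b * x * b) * a = a * b * x * (b * a) by group, ← hab.eq]] at h1
    have hxy : Commute y x := by
      by_contra hc
      exact hgood x hxK ⟨ha, hb, hx, hne, hab, hxa, hxb, hc⟩
    have hxy' : x ≠ y := fun e => hxa (h.commute_of_commute_mul ha hb hx hne hab (by
      show x * u = u * x
      calc x * u = u * x * u * u := by rw [← hy, ← e]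
        _ = u * x := by rw [mul_assoc, hu2, mul_one])).1
    set s := x * y with hs
    have hs2 : s * s = 1 := commute_mul_self (h.inv x hx) (h.inv y hyD) hxy.symm
    have hsu : Commute s u := by
      show s * u = u * s
      calc s * u = x * (u * x) * (u * u) := by rw [hs, hy]; group
        _ = (u * u) * x * (u * x) := by rw [hu2]; group
        _ = u * (u * x * u * x) := by group
        _ = u * s := by rw [hs, ← hxy.eq]
    have hconj : ∀ z ∈ D, s * z * s ∈ D := fun z hz => by
      have h1 := h.conj _ (h.conj z hz y hyD) x hx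
      rwa [show x * (y * z * y) * x = s * z * s by
        rw [hs, show x * (y * z * y) * x = x * y * z * (y * x) by group, hxy.eq]] at h1
    set c := s * a * s with hc
    set c' := s * b * s with hc'
    have hcc : c * c' = u := by
      calc c * c' = s * a * (s * s) * b * s := by rw [hc, hc']; group
        _ = s * u * s := by rw [hs2, hu]; group
        _ = u := by rw [hsu.eq, mul_assoc, hs2, mul_one]
    have hccomm : Commute c c' := by
      show c * c' = c' * c
      calc c * c' = s * a * (s * s) * b * s := by rw [hc, hc']; group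
        _ = s * (a * b) * s := by rw [hs2]; group
        _ = s * b * (s * s) * a * s := by rw [hab.eq, hs2]; group
        _ = c' * c := by rw [hc, hc']; group
    have hcu : Commute c u := hcc ▸ (Commute.refl c).mul_right hccomm
    obtain ⟨hca, hcb⟩ := h.commute_of_commute_mul ha hb (hconj a ha) hne hab hcu
    have hmove : ∀ z ∈ D, ¬ Commute x z → s * z * s ≠ z := fun z hz hxz e => hxz
      (h.commute_of_commute_mul hx hyD hz hxy' hxy.symm (by
        show z * s = s * z
        calc z * s = s * z * s * s := by rw [e]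
          _ = s * z := by rw [mul_assoc, hs2, mul_one])).1.symm
    have hcne : c ≠ a := hmove a ha hxa
    have hc'ne : c' ≠ b := hmove b hb hxb
    have hsK : s ∈ K := mul_mem hxK (mul_mem (mul_mem (mul_mem hamem hbmem) hxK) (mul_mem hamem hbmem))
    have hcb' : c = b := by
      by_contra hne'
      refine hcon c c' (mul_mem (mul_mem hsK hamem) hsK) ⟨hconj a ha, hconj b hb, hcc, hca.symm,
        hcb.symm, hccomm, hcne, hne', fun e => hne' ?_, hc'ne⟩
      have e1 : c * a = a * b := by rw [← e, hcc, e]
      rw [hab.eq] at e1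
      exact mul_right_cancel e1
    have hsxu : s = x * u * x * u := by rw [hs, hy]; group
    have hv2 : x * u * x * (x * u * x) = 1 := by
      calc x * u * x * (x * u * x) = x * u * (x * x) * u * x := by group
        _ = 1 := by rw [h.inv x hx, mul_one, mul_assoc x u u, hu2, mul_one, h.inv x hx]
    have hvu : Commute (x * u * x) u := by
      have e1 : (x * u * x * u) * (x * u * x * u) = 1 := hsxu ▸ hs2
      have e2 : (x * u * x * u)⁻¹ = x * u * x * u := inv_eq_of_mul_eq_one_right e1
      rw [mul_inv_rev, inv_eq_of_mul_eq_one_right hu2, inv_eq_of_mul_eq_one_right hv2] at e2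
      exact e2.symm
    refine ⟨?_, hvu⟩
    set v := x * u * x with hv
    have hva : v * a * v = b := by
      rw [← hcb', hc, hsxu]
      calc v * a * v = v * a * (u * u) * v := by rw [hu2, mul_one]
        _ = v * (u * a) * (v * u) := by rw [hvu.eq, ← hau.eq]; group
        _ = v * u * a * (v * u) := by group
    calc a * v * a * v = a * (v * a * v) := by group
      _ = u := by rw [hva, hu]
  -- the translates of `u`
  set r := a * d with hr
  have hrp : r ^ p = 1 := h.prod a ha d hd fun e => hda e.symm
  have hrK : r ∈ K := mul_mem hamem hdmem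
  set V : ℕ → G := fun j => r ^ j * u * (r ^ j)⁻¹ with hV
  have hV0 : V 0 = u := by simp [hV]
  have hrel : ∀ j : ℕ, 0 < j → j < p →
      a * V j * a = (r ^ j)⁻¹ * u * r ^ j ∧ a * V j * a * V j = u ∧ Commute (V j) u := by
    intro j hj0 hjp
    set q := r ^ j with hq
    set x := q * a with hx
    have hxD : x ∈ D := by
      have h1 : x = (a * d) ^ (j + 1) * d := by
        rw [hx, hq, hr, pow_succ, mul_assoc ((a * d) ^ j), h.cancel' hd]
      rw [h1]
      exact h.pow_mul_mem ha hd (fun e => hda e.symm) _
    have hxa : ¬ Commute x a := by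
      intro e
      have hqa : Commute q a := by
        rw [← h.cancel' ha q, ← hx]
        exact e.mul_left (Commute.refl a)
      have hqd : a * q * a = q := by rw [← hqa.eq, h.cancel' ha]
      have hinv : a * r * a = r⁻¹ := by rw [hr, mul_inv_rev, h.inv_eq ha, h.inv_eq hd, h.cancel ha]
      have hq' : a * q * a = q⁻¹ := by
        rw [hq, ← inv_pow, ← hinv]
        conv_lhs => rw [show a * r ^ j * a = a * r ^ j * a⁻¹ by rw [h.inv_eq ha]]
        rw [← conj_pow, h.inv_eq ha]
      have hq1 : q = 1 := h.eq_one_of_sq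
        (by rw [hq, ← pow_mul, mul_comm, pow_mul, hrp, one_pow])
        (by nth_rewrite 1 [← hqd]; rw [hq', inv_mul_cancel])
      have hd' := orderOf_dvd_of_pow_eq_one (hq ▸ hq1 : r ^ j = 1)
      rw [hr, h.orderOf_eq ha hd fun e => hda e.symm] at hd'
      exact absurd (Nat.le_of_dvd hj0 hd') (by omega)
    have hxb : ¬ Commute x b := by
      intro e
      have hbq : Commute q b := by
        rw [← h.cancel' ha q, ← hx]
        exact e.mul_left hab
      have hcop : Nat.Coprime j (orderOf r) := by
        rw [hr, h.orderOf_eq ha hd fun e => hda e.symm]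
        exact ((h.prime.coprime_iff_not_dvd).2 fun hd' => by
          have := Nat.le_of_dvd hj0 hd'
          omega).symm
      obtain ⟨m, hm⟩ := exists_pow_eq_self_of_coprime hcop
      have hbr : Commute r b := by rw [← hm, ← hq]; exact hbq.pow_left m
      refine hdb ?_
      rw [← h.cancel ha d, ← hr]
      exact hab.mul_left hbr
    obtain ⟨h1, h2⟩ := key x hxD (mul_mem (pow_mem hrK j) hamem) hxa hxb
    have hxi : x = a * q⁻¹ := by
      rw [← h.inv_eq ha, ← mul_inv_rev, ← hx, h.inv_eq hxD]
    have hxux : x * u * x = V j := by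
      calc x * u * x = q * (a * u * a) * q⁻¹ := by nth_rewrite 2 [hxi]; rw [hx]; group
        _ = V j := by rw [hau.eq, h.cancel' ha]
    rw [hxux] at h1 h2
    refine ⟨?_, h1, h2⟩
    calc a * V j * a = a * (x * u * x) * a := by rw [hxux]
      _ = a * (a * q⁻¹) * u * (q * a) * a := by nth_rewrite 1 [hxi]; rw [hx]; group
      _ = q⁻¹ * u * q := by
        rw [h.cancel ha, show q⁻¹ * u * (q * a) * a = q⁻¹ * u * q * a * a by group, h.cancel' ha]
  have hcancel : ∀ i j : ℕ, (r ^ i)⁻¹ * r ^ (i + j) = r ^ j := fun i j => by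
    rw [pow_add, inv_mul_cancel_left]
  obtain ⟨e1, e1', c1⟩ := hrel 1 one_pos (by have := h.five; omega)
  rw [e1] at e1'
  -- `u` and two translates
  have hA : u * V 2 = V 1 := by
    calc u * V 2 = r * ((r ^ 1)⁻¹ * u * r ^ 1 * V 1) * r⁻¹ := by simp only [hV, pow_succ, pow_zero]; group
      _ = V 1 := by rw [e1']; simp [hV]
  have hB : V 1 * V 3 = V 2 := by
    calc V 1 * V 3 = r * (u * V 2) * r⁻¹ := by simp only [hV, pow_succ, pow_zero]; group
      _ = V 2 := by rw [hA]; simp only [hV, pow_succ, pow_zero]; group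
  have hV12 : V 1 * V 1 = 1 := by
    calc V 1 * V 1 = r * (u * u) * r⁻¹ := by simp only [hV, pow_succ, pow_zero]; group
      _ = 1 := by rw [hu2, mul_one, mul_inv_cancel]
  have hV2 : V 2 = u * V 1 := by rw [← hA, ← mul_assoc, hu2, one_mul]
  have hV3 : V 3 = u := by
    calc V 3 = (V 1 * V 1) * V 3 := by rw [hV12, one_mul]
      _ = V 1 * (V 1 * V 3) := by group
      _ = V 1 * u * V 1 := by rw [hB, hV2]; group
      _ = u := by rw [c1.eq, mul_assoc, hV12, mul_one]
  have hr3 : Commute (r ^ 3) u := mul_inv_eq_iff_eq_mul.1 hV3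
  have hcop : Nat.Coprime 3 (orderOf r) := by
    rw [hr, h.orderOf_eq ha hd fun e => hda e.symm]
    exact (Nat.coprime_primes Nat.prime_three h.prime).2 (by have := h.five; omega)
  obtain ⟨m, hm⟩ := exists_pow_eq_self_of_coprime hcop
  have hru : Commute r u := by rw [← hm]; exact hr3.pow_left m
  have hV1u : V 1 = u := by
    show r ^ 1 * u * (r ^ 1)⁻¹ = u
    rw [pow_one, hru.eq, mul_inv_cancel_right]
  have hV2u : V 2 = u := by
    show r ^ 2 * u * (r ^ 2)⁻¹ = u
    rw [(hru.pow_left 2).eq, mul_inv_cancel_right]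
  rw [hV1u, hV2u] at hA
  exact hu1 (hA.symm.trans hu2)

/-- A quad and a member commuting with exactly one of `x`, `z`. -/
theorem quad_bad {x z c c' f : G} (hx : x ∈ D) (hz : z ∈ D) (hxz : Commute x z) (hne : x ≠ z)
    (hq : Quad D x z c c') (hf : f ∈ D) (hfx : Commute f x) (hfz : ¬ Commute f z) :
    Bad D z c f := by
  obtain ⟨hc, hc', heq, hxc, hzc, -, -, hcb, -, hc'b⟩ := hq
  have hc'eq : c' = c * (x * z) := by rw [← heq, h.cancel hc]
  have hxc' : Commute x c' := hc'eq ▸ hxc.mul_right ((Commute.refl x).mul_right hxz)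
  have hzc' : Commute z c' := hc'eq ▸ hzc.mul_right (hxz.symm.mul_right (Commute.refl z))
  have e1 : x * c' = z * c := by
    calc x * c' = (x * c) * (x * z) := by rw [hc'eq]; group
      _ = c * (x * x) * z := by rw [hxc.eq]; group
      _ = z * c := by rw [h.inv x hx, mul_one, hzc.eq]
  have e2 : x * c = z * c' := by
    calc x * c = (c * x) * (z * z) := by rw [hxc.eq, h.inv z hz, mul_one]
      _ = (c * (x * z)) * z := by group
      _ = z * c' := by rw [← hc'eq, hzc'.eq]
  have hfc' : ¬ Commute f c' := fun e => hfz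
    (h.commute_of_commute_mul hz hc hf (Ne.symm hcb) hzc (by rw [← e1]; exact hfx.mul_right e)).1
  have hfc : ¬ Commute f c := fun e => hfz
    (h.commute_of_commute_mul hz hc' hf (Ne.symm hc'b) hzc' (by rw [← e2]; exact hfx.mul_right e)).1
  refine ⟨hz, hc, hf, Ne.symm hcb, hzc, hfz, hfc, fun e => h.not_commute_conj hf hc' hfc' ?_⟩
  have e3 : z * c * f * (z * c) = c' * f * c' := by
    rw [← e1]
    calc x * c' * f * (x * c') = (c' * x) * f * (x * c') := by rw [hxc'.eq]
      _ = c' * (f * x) * (x * c') := by rw [hfx.eq]; group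
      _ = c' * f * (x * x) * c' := by group
      _ = c' * f * c' := by rw [h.inv x hx, mul_one]
  exact e3 ▸ e

end Base

end Cfsg.Agent.RankThreeInvolutions
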