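import Cfsg.Agent.Lib.RankThreeInvolutions.PairwiseClass
import Mathlib.GroupTheory.PGroup

/-!
# Commuting is an equivalence and products of commuting pairs are members: swappers

`Geo p D`: the configuration in which commuting is transitive on `D`, products of commuting pairs lie
in `D`, any commuting pair with a member outside generates the group, which has trivial centre.

`sw D a a'`: the members mapping `a` into the clique of `a'`.
* `Geo.card_cl`: cliques have `p` members; `Geo.card_sw`: so do the swapper sets;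
* `Geo.inverts`: an element of order `p` fixing two cliques is inverted by their swappers.
-/

set_option autoImplicit false
set_option linter.style.haveILetI false

namespace Cfsg.Agent.RankThreeInvolutions

open Subgroup

variable {G : Type*} [Group G]

/-- The final configuration. -/
structure Geo (p : ℕ) (D : Set G) : Prop where
  base : Base p D
  normal : ∀ g : G, ∀ a ∈ D, g * a * g⁻¹ ∈ D
  trans : ∀ x ∈ D, ∀ y ∈ D, ∀ z ∈ D, Commute x y → Commute x z → Commute y z
  prodmem : ∀ a ∈ D, ∀ b ∈ D, a ≠ b → Commute a b → a * b ∈ D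
  pair : ∀ a ∈ D, ∃ b ∈ D, b ≠ a ∧ Commute a b
  noncomm : ∀ a ∈ D, ∃ d ∈ D, ¬ Commute a d
  gen : ∀ a ∈ D, ∀ b ∈ D, ∀ d ∈ D, a ≠ b → Commute a b → ¬ Commute d a →
    closure ({a, b, d} : Set G) = ⊤
  center_bot : center G = ⊥

/-- The clique of `a`. -/
def cl (D : Set G) (a : G) : Set G := {y ∈ D | Commute y a}

/-- The members mapping `a` into the clique of `a'`. -/
def sw (D : Set G) (a a' : G) : Set G := {g ∈ D | Commute (g * a * g) a'}

theorem commute_conj {x y : G} (g : G) (hxy : Commute x y) :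
    Commute (g * x * g⁻¹) (g * y * g⁻¹) := hxy.map (MulAut.conj g).toMonoidHom

theorem arith {p : ℕ} (hp : p.Prime) (h2 : p ≠ 2) {i k : ℕ} (hk : 0 < k) (e : p ^ k + 1 = 2 ^ i) :
    k = 1 := by
  obtain ⟨q, hq⟩ := hp.odd_of_ne_two h2
  rcases i with - | - | i
  · simp at e; exact (hp.ne_zero e.1).elim
  · simp at e
    have := Nat.le_self_pow hk.ne' p
    have := hp.two_le
    omega
  have h4 : 4 ∣ p ^ k + 1 := by rw [e]; exact Dvd.intro (2 ^ i) (by ring)
  rcases Nat.even_or_odd' k with ⟨j, rfl | rfl⟩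
  · exfalso
    obtain ⟨t, ht⟩ := (hp.odd_of_ne_two h2).pow (n := j)
    rw [show p ^ (2 * j) = (p ^ j) * (p ^ j) by rw [← pow_add]; ring_nf, ht,
      show (2 * t + 1) * (2 * t + 1) + 1 = 4 * (t * t + t) + 2 by ring] at h4
    omega
  by_contra hj1
  set S : ℤ := ∑ l ∈ Finset.range (2 * j + 1), (-(p : ℤ)) ^ l with hS
  have hSeq : ((p : ℤ) + 1) * S = (p : ℤ) ^ (2 * j + 1) + 1 := by
    have := mul_geom_sum (-(p : ℤ)) (2 * j + 1)
    rw [← hS, Odd.neg_pow ⟨j, rfl⟩] at this
    linear_combination -this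
  have hSodd : Odd S := by
    have hpodd : Odd (-(p : ℤ)) := ((hp.odd_of_ne_two h2).natCast (R := ℤ)).neg
    have key : ∀ n : ℕ, Odd (∑ l ∈ Finset.range n, (-(p : ℤ)) ^ l) ↔ Odd n := by
      intro n
      induction n with
      | zero => simp
      | succ n ih =>
        rw [Finset.sum_range_succ, Int.odd_add, ih]
        simp [Int.even_iff, Nat.odd_iff, (Int.odd_iff.1 hpodd.pow)]
        omega
    exact (key _).2 ⟨j, rfl⟩
  have e' : ((p : ℤ) + 1) * S = 2 ^ (i + 2) := by rw [hSeq]; exact_mod_cast e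
  have hpos : 0 < S := by
    by_contra hneg
    have : ((p : ℤ) + 1) * S ≤ 0 := mul_nonpos_of_nonneg_of_nonpos (by positivity) (by omega)
    rw [e'] at this
    exact absurd this (not_le.2 (by positivity))
  obtain ⟨Sn, hSn⟩ := Int.eq_ofNat_of_zero_le hpos.le
  rw [hSn] at hSeq hSodd e'
  have hdvd : Sn ∣ 2 ^ (i + 2) := by
    have : (p + 1) * Sn = 2 ^ (i + 2) := by exact_mod_cast e'
    exact ⟨p + 1, by rw [← this, mul_comm]⟩
  obtain ⟨l, -, hl⟩ := (Nat.dvd_prime_pow Nat.prime_two).1 hdvd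
  have hl0 : l = 0 := by
    by_contra hl0
    have h5 : ¬ Odd Sn := fun ho => by
      rw [hl, Nat.odd_pow_iff hl0] at ho
      exact absurd ho (by decide)
    exact h5 (by exact_mod_cast hSodd)
  rw [hl, hl0, pow_zero, Nat.cast_one, mul_one] at hSeq
  have h6 : p ^ 1 = p ^ (2 * j + 1) := by
    rw [pow_one]
    exact_mod_cast (show (p : ℤ) = (p : ℤ) ^ (2 * j + 1) by linear_combination hSeq)
  have := Nat.pow_right_injective hp.two_le h6
  omega

namespace Geo

variable {p : ℕ} {D : Set G} (h : Geo p D)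

include h

theorem commute_conj' {g x y : G} (hg : g ∈ D) (hxy : Commute x y) :
    Commute (g * x * g) (g * y * g) := by
  have := commute_conj g hxy
  rwa [h.base.inv_eq hg] at this

theorem conj_conj {g : G} (hg : g ∈ D) (x : G) : g * (g * x * g) * g = x := by
  rw [show g * (g * x * g) * g = g * g * x * (g * g) by group, h.base.inv g hg, one_mul, mul_one]

theorem trans' {x y z : G} (hx : x ∈ D) (hy : y ∈ D) (hz : z ∈ D) (h1 : Commute y x)
    (h2 : Commute x z) : Commute y z := h.trans x hx y hy z hz h1.symm h2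

theorem fixes_own {g z : G} (hg : g ∈ D) (hz : z ∈ D) (hc : Commute (g * z * g) z) :
    Commute g z := by
  by_contra hn
  exact h.base.not_commute_conj hz hg (fun e => hn e.symm) hc

theorem rot_free {d e z : G} (hd : d ∈ D) (he : e ∈ D) (hde : ¬ Commute d e) (hz : z ∈ D) :
    ¬ Commute z (d * e) := fun hc => by
  obtain ⟨h1, h2⟩ := h.base.commute_of_commute_rot hd he hz hde hc
  exact hde (h.trans z hz d hd e he h1 h2)

theorem sw_swap {a a' g : G} (hg : g ∈ sw D a a') : Commute (g * a' * g) a := by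
  have h1 := h.commute_conj' hg.1 hg.2
  rw [h.conj_conj hg.1] at h1
  exact h1.symm

theorem sw_noncomm {a a' g : G} (ha : a ∈ D) (ha' : a' ∈ D) (hn : ¬ Commute a a')
    (hg : g ∈ sw D a a') : ¬ Commute g a ∧ ¬ Commute g a' := by
  refine ⟨fun e => hn ?_, fun e => hn ?_⟩
  · have := hg.2
    rwa [e.eq, h.base.cancel' hg.1] at this
  · have := h.sw_swap hg
    rw [e.eq, h.base.cancel' hg.1] at this
    exact this.symm

theorem sw_pairwise {a a' g g' : G} (ha : a ∈ D) (ha' : a' ∈ D) (hn : ¬ Commute a a')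
    (hg : g ∈ sw D a a') (hg' : g' ∈ sw D a a') (hne : g ≠ g') : ¬ Commute g g' := by
  intro hc
  have hu := h.prodmem g hg.1 g' hg'.1 hne hc
  have h1 : Commute (g * g' * a * (g * g')) a := by
    have e : g * g' * a * (g * g') = g * (g' * a * g') * g := by
      rw [show g * g' * a * (g * g') = g * g' * a * (g' * g) by rw [hc.eq]]; group
    rw [e]
    exact h.trans' (h.base.conj a' ha' g hg.1)
      (h.base.conj _ (h.base.conj a ha g' hg'.1) g hg.1) ha
      (h.commute_conj' hg.1 hg'.2) (h.sw_swap hg)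
  have h2 := h.fixes_own hu ha h1
  have h3 : Commute (g * g' * a' * (g * g')) a' := by
    have e : g * g' * a' * (g * g') = g * (g' * a' * g') * g := by
      rw [show g * g' * a' * (g * g') = g * g' * a' * (g' * g) by rw [hc.eq]]; group
    rw [e]
    exact h.trans' (h.base.conj a ha g hg.1)
      (h.base.conj _ (h.base.conj a' ha' g' hg'.1) g hg.1) ha'
      (h.commute_conj' hg.1 (h.sw_swap hg')) hg.2
  exact hn (h.trans _ hu a ha a' ha' h2 (h.fixes_own hu ha' h3))

theorem sw_conj {a a' g g' : G} (ha : a ∈ D) (ha' : a' ∈ D) (hg : g ∈ sw D a a')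
    (hg' : g' ∈ sw D a a') : g' * g * g' ∈ sw D a a' := by
  refine ⟨h.base.conj g hg.1 g' hg'.1, ?_⟩
  have e : g' * g * g' * a * (g' * g * g') = g' * (g * (g' * a * g') * g) * g' := by group
  rw [e]
  have h1 : Commute (g * (g' * a * g') * g) a :=
    h.trans' (h.base.conj a' ha' g hg.1) (h.base.conj _ (h.base.conj a ha g' hg'.1) g hg.1) ha
      (h.commute_conj' hg.1 hg'.2) (h.sw_swap hg)
  exact h.trans' (h.base.conj a ha g' hg'.1)
    (h.base.conj _ (h.base.conj _ (h.base.conj a ha g' hg'.1) g hg.1) g' hg'.1) ha'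
    (h.commute_conj' hg'.1 h1) hg'.2

theorem cl_eq_iff {a b : G} (ha : a ∈ D) (hb : b ∈ D) : cl D a = cl D b ↔ Commute a b := by
  refine ⟨fun e => ?_, fun hc => ?_⟩
  · have : a ∈ cl D a := ⟨ha, Commute.refl a⟩
    rw [e] at this
    exact this.2
  · ext y
    exact ⟨fun hy => ⟨hy.1, h.trans' ha hy.1 hb hy.2 hc⟩,
      fun hy => ⟨hy.1, h.trans' hb hy.1 ha hy.2 hc.symm⟩⟩

variable [Finite G]

theorem exists_sw {a a' z : G} (ha : a ∈ D) (ha' : a' ∈ D) (hn : ¬ Commute a a') (hz : z ∈ cl D a) :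
    ∃ g ∈ sw D a a', g * a' * g = z := by
  have hza' : ¬ Commute z a' := fun e => hn (h.trans' hz.1 ha ha' hz.2.symm e)
  have hg := h.base.mid_mem hz.1 ha' hza'
  refine ⟨_, ⟨hg, ?_⟩, h.base.mid_conj hz.1 ha' hza'⟩
  have h1 := h.base.mid_conj hz.1 ha' hza'
  have h2 : h.base.mid z a' * z * h.base.mid z a' = a' := by
    generalize h.base.mid z a' = g at h1 hg ⊢
    rw [← h1, h.conj_conj hg]
  have h3 := h.commute_conj' hg hz.2.symm
  rwa [h2] at h3

theorem sw_ncard {a a' : G} (ha : a ∈ D) (ha' : a' ∈ D) (hn : ¬ Commute a a') :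
    (sw D a a').ncard = (cl D a).ncard := by
  refine Set.ncard_congr (fun g _ => g * a' * g) (fun g hg => ⟨h.base.conj a' ha' g hg.1,
    h.sw_swap hg⟩) (fun g g' hg hg' e => ?_) (fun z hz => ?_)
  · by_contra hne
    have hgg := h.sw_pairwise ha ha' hn hg hg' hne
    refine h.rot_free hg'.1 hg.1 (fun e' => hgg e'.symm) ha' ?_
    show a' * (g' * g) = g' * g * a'
    calc a' * (g' * g) = (g' * (g' * a' * g') * g') * (g' * g) := by rw [h.conj_conj hg'.1]
      _ = g' * (g * a' * g) * (g' * g') * g := by rw [← e]; group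
      _ = g' * g * a' * (g * g) := by rw [h.base.inv g' hg'.1]; group
      _ = g' * g * a' := by rw [h.base.inv g hg.1, mul_one]
  · obtain ⟨g, hg, e⟩ := h.exists_sw ha ha' hn hz
    exact ⟨g, hg, e⟩

theorem card_cl {a : G} (ha : a ∈ D) : (cl D a).ncard = p := by
  have := Fact.mk h.base.prime
  obtain ⟨d, hd, had⟩ := h.noncomm a ha
  obtain ⟨g₀, hg₀, -⟩ := h.exists_sw ha hd had ⟨ha, Commute.refl a⟩
  obtain ⟨⟨k, hk⟩, -⟩ := h.base.pairwise_nc (I := sw D a d) (fun g hg => hg.1) ⟨g₀, hg₀⟩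
    (fun x hx y hy hne => h.sw_pairwise ha hd had hx hy hne)
    (fun x hx y hy => h.sw_conj ha hd hx hy)
  rw [h.sw_ncard ha hd had] at hk
  -- the clique with `1` is a 2-group
  let E : Subgroup G :=
    { carrier := insert 1 (cl D a)
      one_mem' := Set.mem_insert _ _
      mul_mem' := by
        rintro x y (rfl | hx) (rfl | hy)
        · simp
        · rw [one_mul]; exact Or.inr hy
        · rw [mul_one]; exact Or.inr hx
        · by_cases hxy : x = y
          · subst hxy; exact Or.inl (h.base.inv x hx.1)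
          · exact Or.inr ⟨h.prodmem x hx.1 y hy.1 hxy (h.trans' ha hx.1 hy.1 hx.2 hy.2.symm),
              hx.2.mul_left hy.2⟩
      inv_mem' := by
        rintro x (rfl | hx)
        · simp
        · rw [h.base.inv_eq hx.1]; exact Or.inr hx }
  have hE : IsPGroup 2 E := by
    rintro ⟨x, rfl | hx⟩
    · exact ⟨0, Subtype.ext (by simp)⟩
    · exact ⟨1, Subtype.ext (by simp [sq, h.base.inv x hx.1])⟩
  have : Fact (Nat.Prime 2) := ⟨Nat.prime_two⟩
  obtain ⟨i, hi⟩ := IsPGroup.iff_card.1 hE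
  have hcard : Nat.card E = p ^ k + 1 := by
    rw [← hk]
    show Nat.card (insert 1 (cl D a) : Set G) = _
    rw [Nat.card_coe_set_eq, Set.ncard_insert_of_notMem (fun e => h.base.ne 1 e.1 rfl)]
  have hk1 : 0 < k := by
    rcases Nat.eq_zero_or_pos k with rfl | h0
    · exfalso
      obtain ⟨b, hb, hba, hab⟩ := h.pair a ha
      rw [pow_zero, Set.ncard_eq_one] at hk
      obtain ⟨c, hc⟩ := hk
      have h1 : a ∈ cl D a := ⟨ha, Commute.refl a⟩
      have h2 : b ∈ cl D a := ⟨hb, hab.symm⟩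
      rw [hc, Set.mem_singleton_iff] at h1 h2
      exact hba (h2.trans h1.symm)
    · exact h0
  rw [hk, arith h.base.prime (by have := h.base.five; omega) hk1 (hcard.symm.trans hi), pow_one]

theorem card_sw {a a' : G} (ha : a ∈ D) (ha' : a' ∈ D) (hn : ¬ Commute a a') :
    (sw D a a').ncard = p := by rw [h.sw_ncard ha ha' hn, h.card_cl ha]

theorem exists_ne_sw {a a' g : G} (ha : a ∈ D) (ha' : a' ∈ D) (hn : ¬ Commute a a') :
    ∃ g' ∈ sw D a a', g' ≠ g :=
  Set.exists_ne_of_one_lt_ncard (by rw [h.card_sw ha ha' hn]; exact h.base.prime.one_lt) g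

omit [Finite G] in
theorem sw_of_fixed {a a' g y : G} (ha : a ∈ D) (ha' : a' ∈ D)
    (hya : Commute (y * a * y⁻¹) a) (hya' : Commute (y * a' * y⁻¹) a') (hg : g ∈ sw D a a') :
    y * g * y⁻¹ ∈ sw D a a' := by
  refine ⟨h.normal y g hg.1, ?_⟩
  have hb : Commute (y⁻¹ * a * y) a := by
    have := commute_conj y⁻¹ hya
    rw [show y⁻¹ * (y * a * y⁻¹) * y⁻¹⁻¹ = a by group, inv_inv] at this
    exact this.symm
  have hbD : y⁻¹ * a * y ∈ D := by simpa using h.normal y⁻¹ a ha
  have h1 : Commute (g * (y⁻¹ * a * y) * g) a' :=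
    h.trans' (h.base.conj a ha g hg.1) (h.base.conj _ hbD g hg.1) ha' (h.commute_conj' hg.1 hb) hg.2
  have h2 := commute_conj y h1
  rw [show y * g * y⁻¹ * a * (y * g * y⁻¹) = y * (g * (y⁻¹ * a * y) * g) * y⁻¹ by group]
  exact h.trans' (h.normal y a' ha') (h.normal y _ (h.base.conj _ hbD g hg.1)) ha' h2 hya'

/-- A `p`-element centralising a clique and fixing another is trivial. -/
theorem eq_one {a a' y : G} (ha : a ∈ D) (ha' : a' ∈ D) (hn : ¬ Commute a a')
    (hy : IsPGroup p (zpowers y)) (hca : ∀ z ∈ cl D a, Commute y z)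
    (hfix : Commute (y * a' * y⁻¹) a') : y = 1 := by
  have := Fact.mk h.base.prime
  obtain ⟨b, hb, hba, hab⟩ := h.pair a ha
  set a'' := a * a' * a with ha''
  have ha''D : a'' ∈ D := h.base.conj a' ha' a ha
  have hn' : ¬ Commute a' a'' := fun e => hn (h.fixes_own ha ha' e.symm)
  have haS : a ∈ sw D a' a'' := ⟨ha, Commute.refl _⟩
  have hya : Commute y a := hca a ⟨ha, Commute.refl a⟩
  have hfix'' : Commute (y * a'' * y⁻¹) a'' := by
    have e : y * a'' * y⁻¹ = a * (y * a' * y⁻¹) * a := by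
      calc y * a'' * y⁻¹ = (y * a) * a' * (y * a⁻¹)⁻¹ := by rw [ha'']; group
        _ = (a * y) * a' * (y⁻¹ * a) := by
          rw [h.base.inv_eq ha, hya.eq, mul_inv_rev, h.base.inv_eq ha]
        _ = a * (y * a' * y⁻¹) * a := by group
    rw [e]
    exact h.commute_conj' ha hfix
  set S := sw D a' a''
  have hst : ∀ g ∈ S, y * g * y⁻¹ ∈ S := fun g hg => h.sw_of_fixed ha' ha''D hfix hfix'' hg
  have hmap : (fun g => y * g * y⁻¹) '' S = S := by
    refine Set.eq_of_subset_of_ncard_le (by rintro _ ⟨g, hg, rfl⟩; exact hst g hg) ?_ (Set.toFinite _)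
    rw [Set.ncard_image_of_injective _ fun x x' e => mul_left_cancel (mul_right_cancel e)]
  let N : Subgroup G :=
    { carrier := {x | (fun g => x * g * x⁻¹) '' S = S}
      one_mem' := by simp
      mul_mem' := fun {x x'} hx hx' => by
        show _ '' S = S
        conv_rhs => rw [← (hx : _ '' S = S), ← (hx' : _ '' S = S), Set.image_image]
        exact Set.image_congr fun g _ => by group
      inv_mem' := fun {x} hx => by
        show _ '' S = S
        conv_lhs => rw [← (hx : _ '' S = S), Set.image_image]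
        simp [mul_assoc] }
  have hyN : zpowers y ≤ N := zpowers_le.2 hmap
  letI act : MulAction (zpowers y) S :=
    { smul := fun q g => ⟨(q : G) * g * (q : G)⁻¹, (hyN q.2).le ⟨g, g.2, rfl⟩⟩
      one_smul := fun g => Subtype.ext (show ((1 : zpowers y) : G) * g * ((1 : zpowers y) : G)⁻¹ = g by simp)
      mul_smul := fun q q' g => Subtype.ext
        (show ((q : G) * q') * g * ((q : G) * q')⁻¹ = (q : G) * ((q' : G) * g * (q' : G)⁻¹) * (q : G)⁻¹ by
          group) }
  have hmod := hy.card_modEq_card_fixedPoints S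
  rw [Nat.card_coe_set_eq, h.card_sw ha' ha''D hn'] at hmod
  set F := MulAction.fixedPoints (zpowers y) S
  have haF : (⟨a, haS⟩ : S) ∈ F := fun q => by
    obtain ⟨l, hl⟩ := mem_zpowers_iff.1 q.2
    refine Subtype.ext ?_
    show (q : G) * a * (q : G)⁻¹ = a
    rw [← hl, (hya.zpow_left l).eq, mul_inv_cancel_right]
  have hpos : 0 < Nat.card F := by
    haveI : Nonempty F := ⟨⟨_, haF⟩⟩
    exact Nat.card_pos
  have hdvd : p ∣ Nat.card F := (Nat.modEq_zero_iff_dvd).1 (hmod.symm.trans (Nat.modEq_zero_iff_dvd.2 dvd_rfl))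
  have hlt : 1 < Nat.card F := lt_of_lt_of_le h.base.prime.one_lt (Nat.le_of_dvd hpos hdvd)
  haveI : Nontrivial F := Finite.one_lt_card_iff_nontrivial.1 hlt
  obtain ⟨⟨⟨g, hgS⟩, hgF⟩, hg1⟩ := exists_ne (⟨⟨a, haS⟩, haF⟩ : F)
  have hga : g ≠ a := fun e => hg1 (Subtype.ext (Subtype.ext e))
  have hnga := h.sw_pairwise ha' ha''D hn' hgS haS hga
  have hyg : Commute y g := mul_inv_eq_iff_eq_mul.1 (congrArg Subtype.val (hgF ⟨y, mem_zpowers y⟩))
  have hyc : y ∈ center G := by
    rw [mem_center_iff]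
    intro z
    have hz : z ∈ closure ({a, b, g} : Set G) :=
      (h.gen a ha b hb g hgS.1 (Ne.symm hba) hab hnga).symm ▸ mem_top z
    induction hz using closure_induction with
    | mem x hx =>
      rcases hx with rfl | rfl | rfl
      · exact hya.symm
      · exact (hca x ⟨hb, hab.symm⟩).symm
      · exact hyg.symm
    | one => simp
    | mul u v _ _ hu hv => rw [mul_assoc, hv, ← mul_assoc, hu, mul_assoc]
    | inv u _ hu => exact (show Commute u y from hu).inv_left
  rwa [h.center_bot, mem_bot] at hyc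

/-- An element of order `p` fixing two cliques is inverted by their swappers. -/
theorem inverts {a a' g w : G} (ha : a ∈ D) (ha' : a' ∈ D) (hn : ¬ Commute a a')
    (hw : w ^ p = 1) (hwa : Commute (w * a * w⁻¹) a) (hwa' : Commute (w * a' * w⁻¹) a')
    (hg : g ∈ sw D a a') : g * w * g = w⁻¹ := by
  have := Fact.mk h.base.prime
  obtain ⟨d, hd, hdg⟩ := h.exists_ne_sw (g := g) ha ha' hn
  let W : Subgroup G :=
    { carrier := {x | Commute (x * a * x⁻¹) a ∧ Commute (x * a' * x⁻¹) a'}
      one_mem' := by simp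
      mul_mem' := fun {x x'} hx hx' => by
        refine ⟨?_, ?_⟩
        · rw [show x * x' * a * (x * x')⁻¹ = x * (x' * a * x'⁻¹) * x⁻¹ by group]
          exact h.trans' (h.normal x a ha) (h.normal x _ (h.normal x' a ha)) ha
            (commute_conj x hx'.1) hx.1
        · rw [show x * x' * a' * (x * x')⁻¹ = x * (x' * a' * x'⁻¹) * x⁻¹ by group]
          exact h.trans' (h.normal x a' ha') (h.normal x _ (h.normal x' a' ha')) ha'
            (commute_conj x hx'.2) hx.2
      inv_mem' := fun {x} hx => by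
        refine ⟨?_, ?_⟩
        · have := commute_conj x⁻¹ hx.1
          rw [show x⁻¹ * (x * a * x⁻¹) * x⁻¹⁻¹ = a by group] at this
          exact this.symm
        · have := commute_conj x⁻¹ hx.2
          rw [show x⁻¹ * (x * a' * x⁻¹) * x⁻¹⁻¹ = a' by group] at this
          exact this.symm }
  set Gs := {z : G | ∃ s ∈ sw D a a', ∃ t ∈ sw D a a', s * t = z}
  set P := closure Gs with hP
  have hPW : P ≤ W := by
    rw [hP, closure_le]
    rintro _ ⟨s, hs, t, ht, rfl⟩
    have hst' : ∀ z : G, s * t * z * (s * t)⁻¹ = s * (t * z * t) * s := fun z => by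
      rw [mul_inv_rev, h.base.inv_eq hs.1, h.base.inv_eq ht.1]; group
    refine ⟨?_, ?_⟩
    · rw [hst']
      exact h.trans' (h.base.conj a' ha' s hs.1) (h.base.conj _ (h.base.conj a ha t ht.1) s hs.1) ha
        (h.commute_conj' hs.1 ht.2) (h.sw_swap hs)
    · rw [hst']
      exact h.trans' (h.base.conj a ha s hs.1) (h.base.conj _ (h.base.conj a' ha' t ht.1) s hs.1) ha'
        (h.commute_conj' hs.1 (h.sw_swap ht)) hs.2
  have hPp : IsPGroup p P := by
    obtain ⟨-, P₀, hP₀, hmem⟩ := h.base.pairwise_nc (I := sw D a a') (fun x hx => hx.1) ⟨g, hg⟩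
      (fun x hx y hy hne => h.sw_pairwise ha ha' hn hx hy hne)
      (fun x hx y hy => h.sw_conj ha ha' hx hy)
    refine hP₀.to_le ?_
    rw [hP, closure_le]
    rintro _ ⟨s, hs, t, ht, rfl⟩
    exact hmem s hs t ht
  have hWP : ∀ x ∈ W, ∀ z ∈ P, x * z * x⁻¹ ∈ P := by
    intro x hx z hz
    have hle : P ≤ P.comap (MulAut.conj x).toMonoidHom := by
      rw [hP, closure_le]
      rintro _ ⟨s, hs, t, ht, rfl⟩
      refine subset_closure ⟨_, h.sw_of_fixed ha ha' hx.1 hx.2 hs, _,
        h.sw_of_fixed ha ha' hx.1 hx.2 ht, ?_⟩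
      show _ = x * (s * t) * x⁻¹
      group
    exact hle hz
  have hwN : zpowers w ≤ normalizer (P : Set G) := by
    rw [zpowers_le, mem_normalizer_iff]
    refine fun z => ⟨hWP w ⟨hwa, hwa'⟩ z, fun hz => ?_⟩
    have := hWP w⁻¹ (W.inv_mem ⟨hwa, hwa'⟩) _ hz
    simpa [mul_assoc] using this
  have hwp : IsPGroup p (zpowers w) := by
    rintro ⟨z, hz⟩
    obtain ⟨l, rfl⟩ := mem_zpowers_iff.1 hz
    refine ⟨1, Subtype.ext ?_⟩
    rw [SubmonoidClass.coe_pow, pow_one, ← zpow_natCast (w ^ l) p, ← zpow_mul, mul_comm, zpow_mul,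
      zpow_natCast, hw, one_zpow]
    rfl
  set Q := zpowers w ⊔ P with hQ
  have hQp : IsPGroup p Q := hwp.to_sup_of_normal_right' hPp hwN
  have hQW : Q ≤ W := sup_le (zpowers_le.2 ⟨hwa, hwa'⟩) hPW
  -- `Q` acts faithfully on the clique of `a`
  have hcl : ∀ q ∈ Q, ∀ z ∈ cl D a, q * z * q⁻¹ ∈ cl D a := fun q hq z hz =>
    ⟨h.normal q z hz.1, h.trans' (h.normal q a ha) (h.normal q z hz.1) ha (commute_conj q hz.2)
      (hQW hq).1⟩
  let φ : Q → Equiv.Perm (cl D a) := fun q =>
    { toFun := fun z => ⟨(q : G) * z * (q : G)⁻¹, hcl q q.2 z z.2⟩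
      invFun := fun z => ⟨(q : G)⁻¹ * z * (q : G), by simpa using hcl _ (inv_mem q.2) z z.2⟩
      left_inv := fun z => Subtype.ext (by group)
      right_inv := fun z => Subtype.ext (by group) }
  let φhom : Q →* Equiv.Perm (cl D a) :=
    { toFun := φ
      map_one' := Equiv.ext fun z => Subtype.ext (by simp [φ])
      map_mul' := fun q q' => Equiv.ext fun z => Subtype.ext (by simp [φ, mul_assoc]) }
  have hinj : Function.Injective φhom := by
    rw [injective_iff_map_eq_one]
    intro q hq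
    refine Subtype.ext (h.eq_one ha ha' hn ?_ (fun z hz => ?_) (hQW q.2).2)
    · exact hQp.to_le (zpowers_le.2 q.2)
    · exact mul_inv_eq_iff_eq_mul.1 (congrArg Subtype.val (DFunLike.congr_fun hq ⟨z, hz⟩))
  have hdvd : Nat.card Q ∣ p.factorial := by
    refine (card_dvd_of_injective φhom hinj).trans ?_
    rw [Nat.card_perm, Nat.card_coe_set_eq, h.card_cl ha]
  obtain ⟨n, hn'⟩ := IsPGroup.iff_card.1 hQp
  have hn1 : n ≤ 1 := by
    rw [hn', h.base.prime.pow_dvd_iff_le_factorization (Nat.factorial_ne_zero p),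
      Nat.factorization_def _ h.base.prime] at hdvd
    have e : padicValNat p p.factorial = 1 := by
      rw [show p = p * 1 by rw [mul_one]]
      nth_rewrite 1 [mul_one]
      rw [padicValNat_factorial_mul]
      simp
    omega
  have hdgP : d * g ∈ P := subset_closure ⟨d, hd, g, hg, rfl⟩
  have hne : d * g ≠ 1 := fun e => hdg (by rw [← h.base.cancel' hg.1 d, e, one_mul])
  have hPQ : P = Q := by
    refine eq_of_le_of_card_ge le_sup_right ?_
    rw [hn']
    obtain ⟨m, hm⟩ := IsPGroup.iff_card.1 hPp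
    have hm0 : m ≠ 0 := fun e => hne (by
      rw [e, pow_zero, Subgroup.card_eq_one] at hm
      exact mem_bot.1 (hm ▸ hdgP))
    rw [hm]
    exact Nat.pow_le_pow_right h.base.prime.pos (by omega)
  have hgen : zpowers (d * g) = P := by
    refine eq_of_le_of_card_ge (zpowers_le.2 hdgP) ?_
    rw [Nat.card_zpowers, h.base.orderOf_eq hd.1 hg.1 (h.sw_pairwise ha ha' hn hd hg hdg), hPQ, hn']
    calc p ^ n ≤ p ^ 1 := Nat.pow_le_pow_right h.base.prime.pos hn1
      _ = p := pow_one p
  have hwmem : w ∈ zpowers (d * g) := by rw [hgen, hPQ]; exact mem_sup_left (mem_zpowers w)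
  obtain ⟨l, rfl⟩ := mem_zpowers_iff.1 hwmem
  have e : g * (d * g) * g⁻¹ = (d * g)⁻¹ := by
    rw [mul_inv_rev, h.base.inv_eq hd.1, h.base.inv_eq hg.1, ← mul_assoc, h.base.cancel' hg.1]
  calc g * (d * g) ^ l * g = g * (d * g) ^ l * g⁻¹ := by rw [h.base.inv_eq hg.1]
    _ = (g * (d * g) * g⁻¹) ^ l := (conj_zpow).symm
    _ = ((d * g) ^ l)⁻¹ := by rw [e, inv_zpow]

end Geo

end Cfsg.Agent.RankThreeInvolutions
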