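import Cfsg.Agent.Lib.RankThreeInvolutions.Cliques

/-!
# The clique configuration does not exist

* `Geo.card_fixed`: the fixed cliques of an element of order `p` are congruent to all cliques mod `p`;
* `Geo.exists_no_fixed`: some product of two non-commuting members fixes no clique;
* `Geo.false`: counting the inverters of a product fixing two cliques gives a contradiction.
-/

set_option autoImplicit false
set_option linter.style.haveILetI false

namespace Cfsg.Agent.RankThreeInvolutions

open Subgroup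

variable {G : Type*} [Group G] [Finite G] {p : ℕ} {D : Set G}

/-- The cliques. -/
noncomputable def cliques (D : Set G) : Finset (Set G) := by
  classical exact (Set.toFinite D).toFinset.image (cl D)

theorem mem_cliques {C : Set G} : C ∈ cliques D ↔ ∃ a ∈ D, cl D a = C := by
  simp [cliques]

namespace Geo

variable (h : Geo p D)

include h

omit [Finite G] in
theorem map_cl (g : G) {a : G} (ha : a ∈ D) :
    (fun x => g * x * g⁻¹) '' cl D a = cl D (g * a * g⁻¹) := by
  ext y
  refine ⟨?_, fun hy => ⟨g⁻¹ * y * g, ⟨by simpa using h.normal g⁻¹ y hy.1, ?_⟩, by group⟩⟩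
  · rintro ⟨x, hx, rfl⟩
    exact ⟨h.normal g x hx.1, commute_conj g hx.2⟩
  · have := commute_conj g⁻¹ hy.2
    simpa [mul_assoc] using this

omit [Finite G] in
theorem fixed_iff (g : G) {a : G} (ha : a ∈ D) :
    (fun x => g * x * g⁻¹) '' cl D a = cl D a ↔ Commute (g * a * g⁻¹) a := by
  rw [h.map_cl g ha, h.cl_eq_iff (h.normal g a ha) ha]

/-- The fixed cliques of an element of order `p`. -/
theorem card_fixed {w : G} (hw : w ^ p = 1) :
    (cliques D).card ≡
      ({C | C ∈ cliques D ∧ (fun x => w * x * w⁻¹) '' C = C} : Set (Set G)).ncard [MOD p] := by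
  classical
  have := Fact.mk h.base.prime
  have hst : ∀ (g : G), ∀ C ∈ cliques D, (fun x => g * x * g⁻¹) '' C ∈ cliques D := by
    intro g C hC
    obtain ⟨a, ha, rfl⟩ := mem_cliques.1 hC
    exact mem_cliques.2 ⟨_, h.normal g a ha, (h.map_cl g ha).symm⟩
  letI act : MulAction (zpowers w) {C // C ∈ cliques D} :=
    { smul := fun g C => ⟨(fun x => (g : G) * x * (g : G)⁻¹) '' C.1, hst g C.1 C.2⟩
      one_smul := fun C => Subtype.ext (by
        show (fun x => ((1 : zpowers w) : G) * x * ((1 : zpowers w) : G)⁻¹) '' C.1 = C.1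
        simp)
      mul_smul := fun g g' C => Subtype.ext (by
        show (fun x => ((g : G) * g') * x * ((g : G) * g')⁻¹) '' C.1 =
          (fun x => (g : G) * x * (g : G)⁻¹) '' ((fun x => (g' : G) * x * (g' : G)⁻¹) '' C.1)
        rw [Set.image_image]
        exact Set.image_congr fun x _ => by group) }
  have hwp : IsPGroup p (zpowers w) := by
    rintro ⟨z, hz⟩
    obtain ⟨l, rfl⟩ := mem_zpowers_iff.1 hz
    refine ⟨1, Subtype.ext ?_⟩
    rw [SubmonoidClass.coe_pow, pow_one, ← zpow_natCast (w ^ l) p, ← zpow_mul, mul_comm, zpow_mul,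
      zpow_natCast, hw, one_zpow]
    rfl
  have hmod := hwp.card_modEq_card_fixedPoints {C // C ∈ cliques D}
  rw [Nat.card_eq_fintype_card, Fintype.card_coe] at hmod
  refine hmod.trans (congrArg (· % p) ?_)
  rw [← Nat.card_coe_set_eq ({C | C ∈ cliques D ∧ _} : Set (Set G))]
  refine Nat.card_congr
    { toFun := fun C => ⟨C.1.1, C.1.2, congrArg Subtype.val (C.2 ⟨w, mem_zpowers w⟩)⟩
      invFun := fun C => ⟨⟨C.1, C.2.1⟩, fun g => Subtype.ext ?_⟩
      left_inv := fun C => rfl
      right_inv := fun C => rfl }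
  let N : Subgroup G :=
    { carrier := {x | (fun z => x * z * x⁻¹) '' C.1 = C.1}
      one_mem' := by simp
      mul_mem' := fun {x x'} hx hx' => by
        show _ '' C.1 = C.1
        conv_rhs => rw [← (hx : _ '' C.1 = C.1), ← (hx' : _ '' C.1 = C.1), Set.image_image]
        exact Set.image_congr fun z _ => by group
      inv_mem' := fun {x} hx => by
        show _ '' C.1 = C.1
        conv_lhs => rw [← (hx : _ '' C.1 = C.1), Set.image_image]
        simp [mul_assoc] }
  exact (zpowers_le.2 (show w ∈ N from C.2.2)) g.2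

/-- Some product fixes no clique. -/
theorem exists_no_fixed (hne : D.Nonempty) :
    ∃ d ∈ D, ∃ e ∈ D, ¬ Commute d e ∧ ∀ z ∈ D, ¬ Commute (d * e * z * (d * e)⁻¹) z := by
  classical
  obtain ⟨d, hd⟩ := hne
  by_contra hcon
  push Not at hcon
  let E : Finset G := (Set.toFinite {e ∈ D | ¬ Commute e d}).toFinset
  have hE : ∀ e, e ∈ E ↔ e ∈ D ∧ ¬ Commute e d := fun e => by simp [E]
  let T : Set G → Finset G := fun C =>
    (Set.toFinite {e ∈ D | e ≠ d ∧ ∀ z ∈ C, Commute (e * z * e) (d * z * d)}).toFinset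
  have hfib : ∀ C ∈ E.image (cl D), (E.filter fun e => cl D e = C).card = p := by
    intro C hC
    obtain ⟨r, hr, rfl⟩ := Finset.mem_image.1 hC
    obtain ⟨hrD, hrd⟩ := (hE r).1 hr
    have heq : ((E.filter fun e => cl D e = cl D r : Finset G) : Set G) = cl D r := by
      ext e
      simp only [Finset.coe_filter, Set.mem_setOf_eq]
      refine ⟨fun ⟨he, hc⟩ => ⟨((hE e).1 he).1, (h.cl_eq_iff ((hE e).1 he).1 hrD).1 hc⟩,
        fun he => ⟨(hE e).2 ⟨he.1, fun hed => hrd (h.trans e he.1 r hrD d hd he.2 hed)⟩,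
          (h.cl_eq_iff he.1 hrD).2 he.2⟩⟩
    rw [← Set.ncard_coe_finset, heq, h.card_cl hrD]
  have hcard : E.card = (E.image (cl D)).card * p := by
    rw [Finset.card_eq_sum_card_image (cl D) E, Finset.sum_congr rfl hfib, Finset.sum_const,
      smul_eq_mul]
  have hT : ∀ C ∈ E.image (cl D), (T C).card ≤ p - 1 := by
    intro C hC
    obtain ⟨r, hr, rfl⟩ := Finset.mem_image.1 hC
    obtain ⟨hrD, hrd⟩ := (hE r).1 hr
    have hn : ¬ Commute r (d * r * d) := fun e => h.base.not_commute_conj hrD hd hrd e.symm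
    have hdS : d ∈ sw D r (d * r * d) := ⟨hd, Commute.refl _⟩
    have hsub : ((T (cl D r) : Finset G) : Set G) ⊆ sw D r (d * r * d) \ {d} := by
      intro e he
      simp only [T, Set.Finite.coe_toFinset, Set.mem_setOf_eq] at he
      exact ⟨⟨he.1, he.2.2 r ⟨hrD, Commute.refl r⟩⟩, he.2.1⟩
    rw [← Set.ncard_coe_finset]
    refine (Set.ncard_le_ncard hsub).trans ?_
    rw [Set.ncard_diff_singleton_of_mem hdS, h.card_sw hrD (h.base.conj r hrD d hd) hn]
  have hcov : E ⊆ (E.image (cl D)).biUnion T := by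
    intro e he
    obtain ⟨heD, hed⟩ := (hE e).1 he
    obtain ⟨z, hz, hfix⟩ := hcon d hd e heD (fun c => hed c.symm)
    have e1 : d * e * z * (d * e)⁻¹ = d * (e * z * e) * d := by
      rw [mul_inv_rev, h.base.inv_eq hd, h.base.inv_eq heD]; group
    rw [e1] at hfix
    have hezD := h.base.conj z hz e heD
    have hsw : Commute (e * z * e) (d * z * d) := by
      have := h.commute_conj' hd hfix
      rwa [h.conj_conj hd] at this
    have hzd : ¬ Commute z d := fun hc => by
      rw [← hc.eq, h.base.cancel' hd] at hsw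
      exact hed (h.trans z hz e heD d hd (h.fixes_own heD hz hsw).symm hc)
    refine Finset.mem_biUnion.2 ⟨cl D z, Finset.mem_image_of_mem _ ((hE z).2 ⟨hz, hzd⟩), ?_⟩
    simp only [T, Set.Finite.mem_toFinset, Set.mem_setOf_eq]
    refine ⟨heD, fun c => hed (c ▸ Commute.refl d), fun z' hz' => ?_⟩
    have hdzD := h.base.conj z hz d hd
    exact h.trans' hdzD (h.base.conj z' hz'.1 e heD) (h.base.conj z' hz'.1 d hd)
      (h.trans' hezD (h.base.conj z' hz'.1 e heD) hdzD (h.commute_conj' heD hz'.2) hsw)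
      (h.commute_conj' hd hz'.2.symm)
  have h1 := (Finset.card_le_card hcov).trans (Finset.card_biUnion_le_card_mul _ _ _ hT)
  rw [hcard] at h1
  have h2 : 0 < (E.image (cl D)).card := by
    obtain ⟨e, he, hn⟩ := h.noncomm d hd
    exact Finset.card_pos.2 ⟨_, Finset.mem_image_of_mem _ ((hE e).2 ⟨he, fun c => hn c.symm⟩)⟩
  have h3 := Nat.le_of_mul_le_mul_left h1 h2
  have := h.base.prime.two_le
  omega

/-- There is no such configuration. -/
theorem «false» (hne : D.Nonempty) : False := by
  classical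
  have := Fact.mk h.base.prime
  obtain ⟨d₀, hd₀, e₀, he₀, hde₀, hfree⟩ := h.exists_no_fixed hne
  have hn0 : p ∣ (cliques D).card := by
    have h1 := h.card_fixed (h.base.prod d₀ hd₀ e₀ he₀ hde₀)
    rw [show ({C | C ∈ cliques D ∧ (fun x => d₀ * e₀ * x * (d₀ * e₀)⁻¹) '' C = C} : Set (Set G)) = ∅ from
      Set.eq_empty_iff_forall_notMem.2 fun C hC => by
        obtain ⟨z, hz, rfl⟩ := mem_cliques.1 hC.1
        exact hfree z hz ((h.fixed_iff _ hz).1 hC.2), Set.ncard_empty] at h1
    exact Nat.modEq_zero_iff_dvd.1 h1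
  obtain ⟨a, ha⟩ := hne
  obtain ⟨a', ha', hn⟩ := h.noncomm a ha
  obtain ⟨g, hg, -⟩ := h.exists_ne_sw (g := a) ha ha' hn
  obtain ⟨g', hg', hgg'⟩ := h.exists_ne_sw (g := g) ha ha' hn
  have hnc := h.sw_pairwise ha ha' hn hg' hg hgg'
  set w := g' * g with hw
  have hwp : w ^ p = 1 := h.base.prod g' hg'.1 g hg.1 hnc
  have hw1 : w ≠ 1 := fun e => h.base.sq_ne hg'.1 hg.1 hnc (by rw [← hw, e, one_mul])
  have hwconj : ∀ z : G, w * z * w⁻¹ = g' * (g * z * g) * g' := fun z => by
    rw [hw, mul_inv_rev, h.base.inv_eq hg.1, h.base.inv_eq hg'.1]; group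
  have hwa : Commute (w * a * w⁻¹) a := by
    rw [hwconj]
    exact h.trans' (h.base.conj a' ha' g' hg'.1) (h.base.conj _ (h.base.conj a ha g hg.1) g' hg'.1) ha
      (h.commute_conj' hg'.1 hg.2) (h.sw_swap hg')
  have hwa' : Commute (w * a' * w⁻¹) a' := by
    rw [hwconj]
    exact h.trans' (h.base.conj a ha g' hg'.1) (h.base.conj _ (h.base.conj a' ha' g hg.1) g' hg'.1) ha'
      (h.commute_conj' hg'.1 (h.sw_swap hg)) hg'.2
  let F : Finset (Set G) := (cliques D).filter fun C => (fun x => w * x * w⁻¹) '' C = C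
  have hFcard : p ∣ F.card := by
    have h1 := h.card_fixed hwp
    rw [show ({C | C ∈ cliques D ∧ (fun x => w * x * w⁻¹) '' C = C} : Set (Set G)) = (F : Set (Set G)) by
      ext C; simp [F], Set.ncard_coe_finset] at h1
    exact Nat.modEq_zero_iff_dvd.1 (h1.symm.trans (Nat.modEq_zero_iff_dvd.2 hn0))
  have haF : cl D a ∈ F := Finset.mem_filter.2 ⟨mem_cliques.2 ⟨a, ha, rfl⟩, (h.fixed_iff w ha).2 hwa⟩
  have ha'F : cl D a' ∈ F :=
    Finset.mem_filter.2 ⟨mem_cliques.2 ⟨a', ha', rfl⟩, (h.fixed_iff w ha').2 hwa'⟩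
  have hne' : cl D a' ≠ cl D a := fun e => hn ((h.cl_eq_iff ha' ha).1 e).symm
  have hm : 2 ≤ F.card := by
    refine Finset.one_lt_card.2 ⟨_, ha'F, _, haF, hne'⟩
  -- the inverters of `w`
  let I : Set G := {e ∈ D | e * w * e = w⁻¹}
  let If : Finset G := (Set.toFinite I).toFinset
  have hinv : ∀ e ∈ I, e * w⁻¹ * e = w := fun e he => by
    rw [← he.2, h.conj_conj he.1]
  have hmaps : ∀ e ∈ If, cl D (e * a * e) ∈ F.erase (cl D a) := by
    intro e he
    have heI : e ∈ I := (Set.toFinite I).mem_toFinset.1 he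
    have heD := heI.1
    have heaD := h.base.conj a ha e heD
    refine Finset.mem_erase.2 ⟨fun hc => ?_, Finset.mem_filter.2 ⟨mem_cliques.2 ⟨_, heaD, rfl⟩,
      (h.fixed_iff w heaD).2 ?_⟩⟩
    · have hea := h.fixes_own heD ha ((h.cl_eq_iff heaD ha).1 hc)
      have h1 : Commute (w * e * w⁻¹) e :=
        h.trans' ha (h.normal w e heD) heD
          (h.trans' (h.normal w a ha) (h.normal w e heD) ha (commute_conj w hea) hwa) hea.symm
      have h2 : w * e * w⁻¹ = w * w * e := by
        nth_rewrite 1 [← hinv e heI]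
        rw [show e * w⁻¹ * e * e * w⁻¹ = e * w⁻¹ * (e * e) * w⁻¹ by group, h.base.inv e heD, mul_one]
        have : e * w⁻¹ = w * e := by
          calc e * w⁻¹ = e * w⁻¹ * e * e := by rw [h.base.cancel' heD]
            _ = w * e := by rw [hinv e heI]
        rw [this, mul_assoc w e w⁻¹, this, ← mul_assoc]
      have h3 := commute_mul_self (h.base.inv _ (h.normal w e heD)) (h.base.inv e heD) h1
      rw [h2, h.base.cancel' heD] at h3
      have h4 : w * w = 1 := h.base.eq_one_of_sq
        (by rw [(Commute.refl w).mul_pow, hwp, one_mul]) h3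
      exact hw1 (h.base.eq_one_of_sq hwp h4)
    · have e1 : w * (e * a * e) * w⁻¹ = e * (w⁻¹ * a * w) * e := by
        have hew : w * e = e * w⁻¹ := by
          calc w * e = e * w⁻¹ * e * e := by rw [hinv e heI]
            _ = e * w⁻¹ := h.base.cancel' heD _
        calc w * (e * a * e) * w⁻¹ = (w * e) * a * (w * e)⁻¹ := by
              rw [mul_inv_rev w e, h.base.inv_eq heD]; group
          _ = (e * w⁻¹) * a * (e * w⁻¹)⁻¹ := by rw [hew]
          _ = e * (w⁻¹ * a * w) * e := by rw [mul_inv_rev e w⁻¹, inv_inv, h.base.inv_eq heD]; group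
      rw [e1]
      have := commute_conj w⁻¹ hwa
      rw [show w⁻¹ * (w * a * w⁻¹) * w⁻¹⁻¹ = a by group, inv_inv] at this
      exact h.commute_conj' heD this.symm
  have hfib : ∀ C ∈ F.erase (cl D a), (If.filter fun e => cl D (e * a * e) = C).card = p := by
    intro C hC
    obtain ⟨hCne, hCF⟩ := Finset.mem_erase.1 hC
    obtain ⟨hCc, hCfix⟩ := Finset.mem_filter.1 hCF
    obtain ⟨z, hz, rfl⟩ := mem_cliques.1 hCc
    have hnz : ¬ Commute a z := fun c => hCne ((h.cl_eq_iff hz ha).2 c.symm)
    have heq : ((If.filter fun e => cl D (e * a * e) = cl D z : Finset G) : Set G) = sw D a z := by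
      ext e
      simp only [Finset.coe_filter, Set.mem_setOf_eq, If, Set.Finite.mem_toFinset]
      refine ⟨fun ⟨he, hc⟩ => ⟨he.1, (h.cl_eq_iff (h.base.conj a ha e he.1) hz).1 hc⟩, fun he =>
        ⟨⟨he.1, h.inverts ha hz hnz hwp hwa ((h.fixed_iff w hz).1 hCfix) he⟩,
          (h.cl_eq_iff (h.base.conj a ha e he.1) hz).2 he.2⟩⟩
    rw [← Set.ncard_coe_finset, heq, h.card_sw ha hz hnz]
  have hIcard : I.ncard = (F.card - 1) * p := by
    rw [Set.ncard_eq_toFinset_card I (Set.toFinite I), Finset.card_eq_sum_card_fiberwise hmaps,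
      Finset.sum_congr rfl hfib, Finset.sum_const, smul_eq_mul, Finset.card_erase_of_mem haF]
  obtain ⟨⟨k, hk⟩, -⟩ := h.base.pairwise_nc (I := I) (fun e he => he.1)
    ((Set.ncard_pos (Set.toFinite I)).1 (by
      rw [hIcard]; exact Nat.mul_pos (by omega) h.base.prime.pos))
    (fun e he e' he' hne hc => by
      have hu := h.prodmem e he.1 e' he'.1 hne hc
      refine h.rot_free hg'.1 hg.1 hnc hu ?_
      show e * e' * (g' * g) = g' * g * (e * e')
      rw [← hw]
      have huu : e * e' * (e * e') = 1 :=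
        commute_mul_self (h.base.inv e he.1) (h.base.inv e' he'.1) hc
      calc e * e' * w = e * e' * w * (e' * e) * (e * e') := by
            rw [show e * e' * w * (e' * e) * (e * e') = e * e' * w * (e' * (e * e) * e') by group,
              h.base.inv e he.1, mul_one, h.base.inv e' he'.1, mul_one]
        _ = e * (e' * w * e') * e * (e * e') := by group
        _ = w * (e * e') := by rw [he'.2, hinv e he])
    (fun e he e' he' => ⟨h.base.conj e he.1 e' he'.1, by
      rw [show e' * e * e' * w * (e' * e * e') = e' * (e * (e' * w * e') * e) * e' by group, he'.2,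
        hinv e he, he'.2]⟩)
  rw [hIcard] at hk
  rcases k with _ | _ | k
  · rw [pow_zero] at hk
    have := Nat.eq_one_of_mul_eq_one_left hk
    exact h.base.prime.ne_one this
  · have : F.card - 1 = 1 := Nat.eq_of_mul_eq_mul_right h.base.prime.pos (by rw [hk]; ring)
    have h5 := h.base.five
    have := Nat.le_of_dvd (by omega) hFcard
    omega
  · have h1 : F.card - 1 = p ^ (k + 1) :=
      Nat.eq_of_mul_eq_mul_right h.base.prime.pos (by rw [hk, pow_succ])
    have h2 : p ∣ F.card - 1 := h1 ▸ dvd_pow_self p k.succ_ne_zero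
    have h3 := Nat.dvd_sub hFcard h2
    rw [show F.card - (F.card - 1) = 1 by omega] at h3
    exact h.base.prime.not_dvd_one h3

end Geo

end Cfsg.Agent.RankThreeInvolutions
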