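import Cfsg.Agent.Lib.RankThreeInvolutions.Count
import Mathlib.GroupTheory.Solvable
import Mathlib.GroupTheory.Nilpotent

/-!
# No generating class of involutions of rank 3 has products of order `1, 2, p` for a prime `p ≥ 5`

* `fixer`: the elements moving each member to a commuting one;
* `false_of_generating`: there is no group in which a bad triple exists and every bad triple generates;
* `false_of_rank_three`: the theorem.
-/

set_option autoImplicit false
set_option linter.style.haveILetI false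

namespace Cfsg.Agent.RankThreeInvolutions

open Subgroup

universe u

variable {G : Type u} [Group G] [Finite G] {p : ℕ} {D : Set G}

/-- The elements moving every member to a commuting one. -/
def fixer (hnor : ∀ g : G, ∀ a ∈ D, g * a * g⁻¹ ∈ D)
    (htr : ∀ x ∈ D, ∀ y ∈ D, ∀ z ∈ D, Commute x y → Commute x z → Commute y z) : Subgroup G where
  carrier := {g | ∀ d ∈ D, Commute (g * d * g⁻¹) d}
  one_mem' := fun d _ => by simp
  mul_mem' := fun {g g'} hg hg' d hd => by
    rw [show g * g' * d * (g * g')⁻¹ = g * (g' * d * g'⁻¹) * g⁻¹ by group]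
    exact htr _ (hnor g d hd) _ (hnor g _ (hnor g' d hd)) _ hd (commute_conj g (hg' d hd)).symm (hg d hd)
  inv_mem' := fun {g} hg d hd => by
    have := commute_conj g⁻¹ (hg d hd)
    rw [show g⁻¹ * (g * d * g⁻¹) * g⁻¹⁻¹ = d by group, inv_inv] at this
    rw [inv_inv]
    exact this.symm

theorem fixer_normal {hnor : ∀ g : G, ∀ a ∈ D, g * a * g⁻¹ ∈ D}
    {htr : ∀ x ∈ D, ∀ y ∈ D, ∀ z ∈ D, Commute x y → Commute x z → Commute y z} :
    (fixer hnor htr).Normal := by
  refine ⟨fun k hk g d hd => ?_⟩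
  have hd' : g⁻¹ * d * g ∈ D := by simpa using hnor g⁻¹ d hd
  have := commute_conj g (hk _ hd')
  convert this using 1 <;> group

theorem Bad.symm {a b d : G} (hbad : Bad D a b d) : Bad D b a d :=
  ⟨hbad.hb, hbad.ha, hbad.hd, hbad.ne.symm, hbad.comm.symm, hbad.db, hbad.da,
    by rw [← hbad.comm.eq]; exact hbad.bad⟩

theorem commute_of_closure {S : Set G} {x : G} (hx : ∀ s ∈ S, Commute x s) {g : G}
    (hg : g ∈ closure S) : Commute x g := by
  induction hg using closure_induction with
  | mem s hs => exact hx s hs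
  | one => exact Commute.one_right x
  | mul a b _ _ ha hb => exact ha.mul_right hb
  | inv a _ ha => exact ha.inv_right

section generating

variable (h : Base p D) (hnor : ∀ g : G, ∀ a ∈ D, g * a * g⁻¹ ∈ D)
  (hgen : ∀ a b d, Bad D a b d → closure ({a, b, d} : Set G) = ⊤)
  (hnc : ∀ x ∈ D, x ∉ center G)

include h hnor hgen hnc

omit hnor hnc in
theorem central_of_bad {a b d : G} (hbad : Bad D a b d) :
    ∃ e ∈ D, Commute a e ∧ Commute b e ∧ e ≠ a ∧ e ≠ b ∧ a * b * e ∈ center G := by
  obtain ⟨e, he, -, hae, hbe, hea, heb, -, hcent⟩ := h.exists_third hbad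
  refine ⟨e, he, hae, hbe, hea, heb, mem_center_iff.2 fun g => ?_⟩
  exact (commute_of_closure (x := a * b * e)
    (fun s hs => (mem_centralizer_iff.1 hcent s hs).symm)
    (g := g) (by rw [hgen a b d hbad]; exact mem_top g)).symm.eq

omit hnor hnc in
theorem twins {a b d : G} (hbad : Bad D a b d) {y : G} (hy : y ∈ D) (hya : Commute y a) :
    Commute y b := by
  obtain ⟨e, he, -, hbe, -, heb, hc⟩ := central_of_bad h hgen hbad
  refine (h.commute_of_commute_mul hbad.hb he hy (Ne.symm heb) hbe ?_).1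
  rw [show b * e = a * (a * b * e) by rw [← mul_assoc, h.cancel hbad.ha]]
  exact hya.mul_right (mem_center_iff.1 hc y)

omit hnor in
/-- Commuting is transitive. -/
theorem trans_of_generating {a₀ b₀ d₀ : G} (hbad₀ : Bad D a₀ b₀ d₀) :
    ∀ x ∈ D, ∀ y ∈ D, ∀ z ∈ D, Commute x y → Commute x z → Commute y z := by
  intro x hx y hy z hz hxy hxz
  by_contra hyz
  have hne : x ≠ z := fun e => hyz (e ▸ hxy.symm)
  have hgood : ∀ w, ¬ Bad D x z w := fun w hw => hyz (twins h hgen hw hy hxy.symm)
  have hg2 : ∀ w ∈ D, ¬ Commute w a₀ ∨ ¬ Commute w d₀ := by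
    intro w hw
    by_contra hcon
    push Not at hcon
    refine hnc w hw (mem_center_iff.2 fun g => ?_)
    refine ((commute_of_closure (x := w) (S := {a₀, b₀, d₀}) ?_
      (g := g) (by rw [hgen _ _ _ hbad₀]; exact mem_top g))).symm.eq
    rintro s (rfl | rfl | rfl)
    · exact hcon.1
    · exact twins h hgen hbad₀ hw hcon.1
    · exact hcon.2
  obtain ⟨w, hw, hwx, hwz⟩ : ∃ w ∈ D, ¬ Commute w x ∧ ¬ Commute w z := by
    have hline : ∀ u v, u ∈ D → v ∈ D → Commute u d₀ → ¬ Commute u a₀ → Commute v a₀ →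
        ¬ Commute v d₀ → ¬ Commute (a₀ * d₀ * a₀) u ∧ ¬ Commute (a₀ * d₀ * a₀) v := by
      intro u v _ _ hud hua hva hvd
      refine ⟨fun e => hua ?_, fun e => hvd ?_⟩
      · have hr : Commute u (a₀ * d₀ * (a₀ * d₀)) := by
          rw [show a₀ * d₀ * (a₀ * d₀) = a₀ * d₀ * a₀ * d₀ by group]
          exact e.symm.mul_right hud
        have h1 : Commute u (a₀ * d₀) :=
          (h.commute_of_sq (h.prod a₀ hbad₀.ha d₀ hbad₀.hd fun c => hbad₀.da c.symm) hr.symm).symm
        rw [← h.cancel' hbad₀.hd a₀]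
        exact h1.mul_right hud
      · have : d₀ = a₀ * (a₀ * d₀ * a₀) * a₀ := by
          rw [show a₀ * (a₀ * d₀ * a₀) * a₀ = a₀ * a₀ * d₀ * (a₀ * a₀) by group,
            h.inv a₀ hbad₀.ha, one_mul, mul_one]
        rw [this]
        exact (hva.mul_right e.symm).mul_right hva
    have hmem : a₀ * d₀ * a₀ ∈ D := h.conj d₀ hbad₀.hd a₀ hbad₀.ha
    by_cases hxa : Commute x a₀ <;> by_cases hza : Commute z a₀
    · exact ⟨d₀, hbad₀.hd, fun e => (hg2 x hx).elim (fun c => c hxa) (fun c => c e.symm),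
        fun e => (hg2 z hz).elim (fun c => c hza) (fun c => c e.symm)⟩
    · by_cases hzd : Commute z d₀
      · obtain ⟨e1, e2⟩ := hline z x hz hx hzd hza hxa ((hg2 x hx).resolve_left (fun c => c hxa))
        exact ⟨_, hmem, e2, e1⟩
      · exact ⟨d₀, hbad₀.hd, fun e => (hg2 x hx).elim (fun c => c hxa) (fun c => c e.symm),
          fun e => hzd e.symm⟩
    · by_cases hxd : Commute x d₀
      · obtain ⟨e1, e2⟩ := hline x z hx hz hxd hxa hza ((hg2 z hz).resolve_left (fun c => c hza))
        exact ⟨_, hmem, e1, e2⟩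
      · exact ⟨d₀, hbad₀.hd, fun e => hxd e.symm,
          fun e => (hg2 z hz).elim (fun c => c hza) (fun c => c e.symm)⟩
    · exact ⟨a₀, hbad₀.ha, fun e => hxa e.symm, fun e => hza e.symm⟩
  obtain ⟨c, c', -, hq⟩ := h.exists_quad hx hz hw hne hxz hwx hwz fun s _ => hgood s
  have hb := h.quad_bad hx hz hxz hne hq hy hxy.symm hyz
  refine hnc x hx (mem_center_iff.2 fun g => ?_)
  refine ((commute_of_closure (x := x) (S := {z, c, y}) ?_
    (g := g) (by rw [hgen _ _ _ hb]; exact mem_top g))).symm.eq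
  rintro s (rfl | rfl | rfl)
  · exact hxz
  · exact hq.ac
  · exact hxy

/-- No bad triple exists when all of them generate. -/
theorem false_of_generating {a₀ b₀ d₀ : G} (hbad₀ : Bad D a₀ b₀ d₀) : False := by
  have htr := trans_of_generating h hgen hnc hbad₀
  set K := fixer hnor htr with hK
  haveI : K.Normal := fixer_normal
  have hKc : ∀ c ∈ center G, c ∈ K := fun c hc d _ => by
    rw [(mem_center_iff.1 hc d).symm, mul_inv_cancel_right]
  set f := QuotientGroup.mk' K with hf
  have hker : ∀ g, f g = 1 ↔ g ∈ K := fun g => QuotientGroup.eq_one_iff g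
  have hex : ∀ x ∈ D, ∃ w ∈ D, ¬ Commute x w := fun x hx => by
    by_contra hcon
    push Not at hcon
    refine hnc x hx (mem_center_iff.2 fun g => ?_)
    exact ((commute_of_closure (x := x) (S := {a₀, b₀, d₀}) (by
      rintro s (rfl | rfl | rfl)
      exacts [hcon _ hbad₀.ha, hcon _ hbad₀.hb, hcon _ hbad₀.hd])
      (g := g) (by rw [hgen _ _ _ hbad₀]; exact mem_top g))).symm.eq
  have himg : ∀ x ∈ D, ∀ y ∈ D, Commute (f x) (f y) → Commute x y := by
    intro x hx y hy hc
    by_contra hn
    have h1 : f (x * y) ^ p = 1 := by rw [← map_pow, h.prod x hx y hy hn, map_one]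
    have h2 : f (x * y) * f (x * y) = 1 := by
      rw [map_mul]
      refine commute_mul_self ?_ ?_ hc
      · rw [← map_mul, h.inv x hx, map_one]
      · rw [← map_mul, h.inv y hy, map_one]
    have h3 : f (x * y) = 1 := by
      rw [← (show f ((x * y) ^ ((p + 1) / 2) * (x * y) ^ ((p + 1) / 2)) = f (x * y) from
        congrArg f (h.half (h.prod x hx y hy hn))), map_mul, map_pow, ← (Commute.refl _).mul_pow, h2,
        one_pow]
    have h4 := (hker _).1 h3 x hx
    have h5 := commute_conj x h4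
    have e5 : x * (x * y * x * (x * y)⁻¹) * x⁻¹ = y * x * y := by
      rw [mul_inv_rev, h.inv_eq hx, h.inv_eq hy,
        show x * (x * y * x * (y * x)) * x = (x * x) * (y * x * y) * (x * x) by group, h.inv x hx,
        one_mul, mul_one]
    rw [e5, mul_inv_cancel_right] at h5
    exact h.not_commute_conj hx hy hn h5
  have hprodK : ∀ x ∈ D, ∀ y ∈ D, f x ≠ f y → x * y ∉ K := fun x hx y hy hne hk => hne (by
    have h1 := (hker _).2 hk
    rw [map_mul, mul_eq_one_iff_eq_inv, ← map_inv, h.inv_eq hy] at h1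
    exact h1)
  -- pairs outside the kernel come from bad triples
  have hpair : ∀ a ∈ D, ∀ b ∈ D, a ≠ b → Commute a b → a * b ∉ K →
      ∃ e ∈ D, Commute a e ∧ Commute b e ∧ a * b * e ∈ center G := by
    intro a ha b hb hne hab hk
    simp only [hK, fixer, Subgroup.mem_mk, Submonoid.mem_mk, Subsemigroup.mem_mk, Set.mem_setOf_eq,
      not_forall] at hk
    obtain ⟨d, hd, hdd⟩ := hk
    have hinv : (a * b)⁻¹ = a * b := by rw [mul_inv_rev, h.inv_eq ha, h.inv_eq hb, hab.eq]
    rw [hinv] at hdd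
    have hda : ¬ Commute d a := fun c => hdd (by
      have hcb : Commute d b := htr a ha d hd b hb c.symm hab
      rw [← (c.mul_right hcb).eq, mul_assoc, commute_mul_self (h.inv a ha) (h.inv b hb) hab, mul_one])
    have hdb : ¬ Commute d b := fun c => hda (htr b hb d hd a ha c.symm hab.symm)
    obtain ⟨e, he, hae, hbe, -, -, hc⟩ :=
      central_of_bad h hgen (⟨ha, hb, hd, hne, hab, hda, hdb, hdd⟩ : Bad D a b d)
    exact ⟨e, he, hae, hbe, hc⟩
  have hBase : Base p (f '' D) := by
    refine ⟨h.prime, h.five, ?_, ?_, ?_, ?_⟩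
    · rintro _ ⟨x, hx, rfl⟩
      rw [← map_mul, h.inv x hx, map_one]
    · rintro _ ⟨x, hx, rfl⟩ e
      obtain ⟨w, hw, hxw⟩ := hex x hx
      have h1 := (hker _).1 e w hw
      rw [h.inv_eq hx] at h1
      exact h.not_commute_conj hw hx (fun c => hxw c.symm) h1
    · rintro _ ⟨x, hx, rfl⟩ _ ⟨y, hy, rfl⟩
      exact ⟨_, h.conj x hx y hy, by rw [map_mul, map_mul]⟩
    · rintro _ ⟨x, hx, rfl⟩ _ ⟨y, hy, rfl⟩ hn
      rw [← map_mul, ← map_pow, h.prod x hx y hy (fun c => hn (c.map f)), map_one]
  have hgeo : Geo p (f '' D) := by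
    refine ⟨hBase, ?_, ?_, ?_, ?_, ?_, ?_, ?_⟩
    · rintro q _ ⟨x, hx, rfl⟩
      obtain ⟨g, rfl⟩ := QuotientGroup.mk'_surjective K q
      exact ⟨_, hnor g x hx, by rw [map_mul, map_mul, map_inv]⟩
    · rintro _ ⟨x, hx, rfl⟩ _ ⟨y, hy, rfl⟩ _ ⟨z, hz, rfl⟩ h1 h2
      exact (htr x hx y hy z hz (himg x hx y hy h1) (himg x hx z hz h2)).map f
    · rintro _ ⟨a, ha, rfl⟩ _ ⟨b, hb, rfl⟩ hne hc
      obtain ⟨e, he, -, -, hce⟩ :=
        hpair a ha b hb (fun e => hne (congrArg f e)) (himg a ha b hb hc) (hprodK a ha b hb hne)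
      refine ⟨e, he, ?_⟩
      have h1 := (hker _).2 (hKc _ hce)
      rw [map_mul, mul_eq_one_iff_eq_inv] at h1
      rw [← map_mul, h1, ← map_inv, h.inv_eq he]
    · rintro _ ⟨x, hx, rfl⟩
      have hk : a₀ * b₀ ∉ K := fun hk => hbad₀.bad (by
        have := hk d₀ hbad₀.hd
        rwa [mul_inv_rev, h.inv_eq hbad₀.ha, h.inv_eq hbad₀.hb, ← hbad₀.comm.eq] at this)
      have hconj : ∀ u ∈ D, ∀ v ∈ D, ¬ Commute u v → IsConj u v := by
        intro u hu v hv huv
        have hvu : ¬ Commute v u := fun c => huv c.symm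
        refine isConj_iff.2 ⟨h.mid v u, ?_⟩
        rw [h.inv_eq (h.mid_mem hv hu hvu), h.mid_conj hv hu hvu]
      obtain ⟨g, rfl⟩ : ∃ g : G, g * a₀ * g⁻¹ = x := by
        refine isConj_iff.1 ?_
        by_cases hxa : Commute x a₀
        · have hxd : ¬ Commute d₀ x := fun e =>
            hbad₀.da (htr x hx d₀ hbad₀.hd a₀ hbad₀.ha e.symm hxa)
          exact (hconj a₀ hbad₀.ha d₀ hbad₀.hd fun c => hbad₀.da c.symm).trans
            (hconj d₀ hbad₀.hd x hx hxd)
        · exact hconj a₀ hbad₀.ha x hx fun c => hxa c.symm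
      refine ⟨f (g * b₀ * g⁻¹), ⟨_, hnor g b₀ hbad₀.hb, rfl⟩, fun e => ?_,
        (commute_conj g hbad₀.comm).map f⟩
      have h1 : f (g * (a₀ * b₀) * g⁻¹) = 1 := by
        rw [show g * (a₀ * b₀) * g⁻¹ = (g * a₀ * g⁻¹) * (g * b₀ * g⁻¹) by group, map_mul, e,
          ← map_mul, h.inv _ hx, map_one]
      refine hk ?_
      have := (inferInstance : K.Normal).conj_mem _ ((hker _).1 h1) g⁻¹
      simpa [mul_assoc] using this
    · rintro _ ⟨x, hx, rfl⟩
      obtain ⟨w, hw, hn⟩ := hex x hx
      exact ⟨_, ⟨w, hw, rfl⟩, fun c => hn (himg x hx w hw c)⟩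
    · rintro _ ⟨a, ha, rfl⟩ _ ⟨b, hb, rfl⟩ _ ⟨d, hd, rfl⟩ hne hc hn
      have hab := himg a ha b hb hc
      have hda : ¬ Commute d a := fun c => hn (c.map f)
      have hdb : ¬ Commute d b := fun c => hda (htr b hb d hd a ha c.symm hab.symm)
      obtain ⟨e, he, hae, hbe, hce⟩ :=
        hpair a ha b hb (fun e => hne (congrArg f e)) hab (hprodK a ha b hb hne)
      have hde : ¬ Commute d e := fun c => hda (htr e he d hd a ha c.symm hae.symm)
      have hbad : Bad D a b d := by
        refine ⟨ha, hb, hd, fun e => hne (congrArg f e), hab, hda, hdb, fun c => ?_⟩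
        refine h.not_commute_conj hd he hde ?_
        have e1 : a * b * d * (a * b) = e * d * e := by
          set c₀ := a * b * e with hc₀
          have hcc := fun g => mem_center_iff.1 hce g
          have hu : a * b = c₀ * e := by rw [hc₀, h.cancel' he]
          have hu' : a * b = e * c₀ := by rw [hu, ← hcc e]
          have hc2 : c₀ * c₀ = 1 := by
            have h1 : (c₀ * e) * (e * c₀) = 1 := by
              rw [← hu, ← hu']
              exact commute_mul_self (h.inv a ha) (h.inv b hb) hab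
            rwa [← mul_assoc, h.cancel' he] at h1
          calc a * b * d * (a * b) = e * (c₀ * d) * (c₀ * e) := by
                nth_rewrite 1 [hu']; rw [hu]; group
            _ = e * d * (c₀ * c₀) * e := by rw [← hcc d]; group
            _ = e * d * e := by rw [hc2, mul_one]
        rwa [e1] at c
      have hmap := congrArg (Subgroup.map f) (hgen a b d hbad)
      rw [MonoidHom.map_closure, map_top_of_surjective f (QuotientGroup.mk'_surjective K)] at hmap
      rwa [Set.image_insert_eq, Set.image_insert_eq, Set.image_singleton] at hmap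
    · rw [eq_bot_iff]
      intro q hq
      obtain ⟨g, rfl⟩ := QuotientGroup.mk'_surjective K q
      rw [mem_bot]
      refine (hker g).2 fun d hd => himg _ (hnor g d hd) d hd ?_
      rw [map_mul, map_mul, map_inv, ← mem_center_iff.1 hq (f d), mul_inv_cancel_right]
  exact hgeo.false ⟨_, a₀, hbad₀.ha, rfl⟩

end generating

/-- **The theorem**. -/
theorem false_of_rank_three (h : Base p D) (hconj : ∀ a ∈ D, conjugatesOf a = D)
    (hgen : closure D = ⊤)
    (hpairs : ∀ x ∈ D, ∀ z ∈ D, ∀ z' ∈ D, z ≠ x → Commute x z → z' ≠ x → Commute x z' →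
      ∃ g : G, Commute g x ∧ g * z * g⁻¹ = z')
    (hsol : ∀ N : Subgroup G, N.Normal → Group.IsSolvable N → N = ⊥)
    (hpair : ∃ a ∈ D, ∃ b ∈ D, a ≠ b ∧ Commute a b) : False := by
  classical
  have hnor : ∀ g : G, ∀ a ∈ D, g * a * g⁻¹ ∈ D := fun g a ha => by
    rw [← hconj a ha]
    exact isConj_iff.2 ⟨g, rfl⟩
  by_cases hbadx : ∃ a b d, Bad D a b d
  · -- a minimal bad triple
    have hS : ∃ n, ∃ a b d, Bad D a b d ∧ Nat.card (closure ({a, b, d} : Set G)) = n := by
      obtain ⟨a, b, d, hb⟩ := hbadx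
      exact ⟨_, a, b, d, hb, rfl⟩
    obtain ⟨a₀, b₀, d₀, hb₀, hn⟩ := Nat.find_spec hS
    set H := closure ({a₀, b₀, d₀} : Set G) with hH
    set D' : Set H := {x | (x : G) ∈ D ∧ x ∉ center H} with hD'
    have hcomm : ∀ {x y : H}, Commute x y ↔ Commute (x : G) y := fun {x y} =>
      ⟨fun c => c.map H.subtype, fun c => Subtype.ext c⟩
    have hnor' : ∀ g : H, ∀ a ∈ D', g * a * g⁻¹ ∈ D' := fun g a ha => ⟨hnor g a ha.1, fun hc => ha.2 (by
      have := (inferInstance : (center H).Normal).conj_mem _ hc g⁻¹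
      simpa [mul_assoc] using this)⟩
    have hB : Base p D' := by
      refine ⟨h.prime, h.five, fun a ha => Subtype.ext (h.inv _ ha.1),
        fun a ha e => h.ne _ ha.1 (congrArg Subtype.val e), fun a ha b hb => ?_,
        fun a ha b hb hn => Subtype.ext (h.prod _ ha.1 _ hb.1 fun c => hn (hcomm.2 c))⟩
      have e1 : b⁻¹ = b := Subtype.ext (h.inv_eq hb.1)
      have := hnor' b a ha
      rwa [e1] at this
    have hmem : ∀ x ∈ ({a₀, b₀, d₀} : Set G), x ∈ H := fun x hx => subset_closure hx
    have hD'mem : ∀ {x y : G} (hx : x ∈ H) (hy : y ∈ H), x ∈ D → ¬ Commute x y →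
        (⟨x, hx⟩ : H) ∈ D' := fun {x y} hx hy hxD hn =>
      ⟨hxD, fun hc => hn (hcomm.1 (mem_center_iff.1 hc ⟨y, hy⟩).symm)⟩
    have hgen' : ∀ a b d : H, Bad D' a b d → closure ({a, b, d} : Set H) = ⊤ := by
      intro a b d hbad
      have hG : Bad D (a : G) b d := ⟨hbad.ha.1, hbad.hb.1, hbad.hd.1,
        fun e => hbad.ne (Subtype.ext e), hcomm.1 hbad.comm, fun c => hbad.da (hcomm.2 c),
        fun c => hbad.db (hcomm.2 c), fun c => hbad.bad (hcomm.2 c)⟩
      refine eq_top_of_le_card _ ?_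
      have hmap : (closure ({a, b, d} : Set H)).map H.subtype = closure ({(a : G), (b : G), (d : G)} : Set G) := by
        rw [MonoidHom.map_closure, Set.image_insert_eq, Set.image_insert_eq, Set.image_singleton]
        rfl
      rw [← card_map_of_injective H.subtype_injective, hmap, hn]
      exact Nat.find_min' hS ⟨_, _, _, hG, rfl⟩
    refine false_of_generating (D := D') hB hnor' hgen' (fun x hx => hx.2)
      (a₀ := ⟨a₀, hmem _ (by simp)⟩) (b₀ := ⟨b₀, hmem _ (by simp)⟩) (d₀ := ⟨d₀, hmem _ (by simp)⟩)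
      ⟨hD'mem _ (hmem d₀ (by simp)) hb₀.ha (fun c => hb₀.da c.symm),
        hD'mem _ (hmem d₀ (by simp)) hb₀.hb (fun c => hb₀.db c.symm),
        hD'mem _ (hmem a₀ (by simp)) hb₀.hd hb₀.da,
        fun e => hb₀.ne (congrArg Subtype.val e), hcomm.2 hb₀.comm, fun c => hb₀.da (hcomm.1 c),
        fun c => hb₀.db (hcomm.1 c), fun c => hb₀.bad (hcomm.1 c)⟩
  push Not at hbadx
  -- every commuting pair has a common non-commuting member
  have hcommon : ∀ x ∈ D, ∀ z ∈ D, z ≠ x → Commute x z → ∃ w ∈ D, ¬ Commute w x ∧ ¬ Commute w z := by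
    intro x hx z hz hzx hxz
    by_contra hcon
    push Not at hcon
    -- no pair has one
    have hall : ∀ x' ∈ D, ∀ z' ∈ D, z' ≠ x' → Commute x' z' → ∀ w ∈ D, ¬ Commute w x' → Commute w z' := by
      intro x' hx' z' hz' hne' hc' w hw hwx
      obtain ⟨k, hk⟩ := isConj_iff.1 (show IsConj x x' from (hconj x hx).ge hx')
      obtain ⟨g, hgx, hgz⟩ := hpairs x' hx' _ (hnor k z hz) z' hz'
        (fun e => hzx (mul_left_cancel (mul_right_cancel (e.trans hk.symm))))
        (hk ▸ commute_conj k hxz) hne' hc'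
      set m := g * k with hm
      have hmx : m * x * m⁻¹ = x' := by
        rw [hm, show g * k * x * (g * k)⁻¹ = g * (k * x * k⁻¹) * g⁻¹ by group, hk, hgx.eq,
          mul_inv_cancel_right]
      have hmz : m * z * m⁻¹ = z' := by
        rw [hm, show g * k * z * (g * k)⁻¹ = g * (k * z * k⁻¹) * g⁻¹ by group, hgz]
      set w' := m⁻¹ * w * m with hw'
      have hw'D : w' ∈ D := by simpa [hw'] using hnor m⁻¹ w hw
      have hw'm : m * w' * m⁻¹ = w := by rw [hw']; group
      have h1 := hcon w' hw'D (fun c => hwx (by rw [← hw'm, ← hmx]; exact commute_conj m c))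
      rw [← hw'm, ← hmz]
      exact commute_conj m h1
    set S : Set G := {y | y ∈ D ∧ (y = x ∨ ¬ Commute x y)} with hS
    have hSc : ∀ d ∈ D, ∀ y ∈ S, d * y * d ∈ S := by
      rintro d hd y ⟨hy, hy'⟩
      by_cases hdy : Commute d y
      · rw [hdy.eq, h.cancel' hd]; exact ⟨hy, hy'⟩
      · refine ⟨h.conj y hy d hd, ?_⟩
        by_contra hcon'
        push Not at hcon'
        obtain ⟨hne1, hc1⟩ := hcon'
        -- `x` and `d y d` commute and are distinct
        have hxd : Commute x d := by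
          by_contra hxd
          have := hall x hx (d * y * d) (h.conj y hy d hd) hne1 hc1 d hd (fun c => hxd c.symm)
          refine hdy ?_
          have h2 := commute_conj d this
          rwa [mul_inv_cancel_right, h.inv_eq hd,
            show d * (d * y * d) * d = d * d * y * (d * d) by group, h.inv d hd, one_mul, mul_one] at h2
        have h2 : Commute x y := by
          rw [show y = d * (d * y * d) * d by
            rw [show d * (d * y * d) * d = d * d * y * (d * d) by group, h.inv d hd, one_mul, mul_one]]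
          exact (hxd.mul_right hc1).mul_right hxd
        rcases hy' with rfl | hy'
        · exact hdy hxd.symm
        · exact hy' h2
    have hle : closure D ≤ ({ carrier := {g : G | (∀ y ∈ S, g * y * g⁻¹ ∈ S) ∧ ∀ y ∈ S, g⁻¹ * y * g ∈ S}
                              one_mem' := by simp
                              mul_mem' := fun {g g'} hg hg' => ⟨fun y hy => by
                                  rw [show g * g' * y * (g * g')⁻¹ = g * (g' * y * g'⁻¹) * g⁻¹ by group]
                                  exact hg.1 _ (hg'.1 y hy), fun y hy => by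
                                  rw [show (g * g')⁻¹ * y * (g * g') = g'⁻¹ * (g⁻¹ * y * g) * g' by group]
                                  exact hg'.2 _ (hg.2 y hy)⟩
                              inv_mem' := fun {g} hg =>
                                ⟨by simpa using hg.2, by simpa using hg.1⟩ } : Subgroup G) := by
      rw [closure_le]
      intro d hd
      refine ⟨fun y hy => ?_, fun y hy => ?_⟩ <;> rw [h.inv_eq hd] <;> exact hSc d hd y hy
    rw [hgen] at hle
    obtain ⟨g, hg⟩ := isConj_iff.1 (show IsConj x z from (hconj x hx).ge hz)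
    have hzS := (hle (mem_top g)).1 x ⟨hx, Or.inl rfl⟩
    rw [hg] at hzS
    exact hzS.2.elim hzx fun c => c hxz
  have htr : ∀ x ∈ D, ∀ y ∈ D, ∀ z ∈ D, Commute x y → Commute x z → Commute y z := by
    intro x hx y hy z hz hxy hxz
    by_contra hyz
    have hne : z ≠ x := fun e => hyz (e ▸ hxy.symm)
    obtain ⟨w, hw, hwx, hwz⟩ := hcommon x hx z hz hne hxz
    obtain ⟨c, c', -, hq⟩ := h.exists_quad hx hz hw hne.symm hxz hwx hwz fun s _ => hbadx x z s
    exact hbadx z c y (h.quad_bad hx hz hxz hne.symm hq hy hxy.symm hyz)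
  obtain ⟨a, ha, b, hb, hab, habc⟩ := hpair
  set K := fixer hnor htr with hK
  haveI : K.Normal := fixer_normal
  have hin : ∀ y ∈ D, Commute y a → a * y ∈ K := by
    intro y hy hya d hd
    by_cases hy' : a = y
    · subst hy'; rw [h.inv a ha]; simp
    rw [mul_inv_rev, h.inv_eq hy, h.inv_eq ha]
    by_cases hda : Commute d a
    · have hdy : Commute d y := htr a ha d hd y hy hda.symm hya.symm
      rw [← (hda.mul_right hdy).eq, show d * (a * y) * (y * a) = d * (a * (y * y) * a) by group,
        h.inv y hy, mul_one, h.inv a ha, mul_one]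
    · by_contra hcon
      have hdy : ¬ Commute d y := fun c => hda (htr y hy d hd a ha c.symm hya)
      exact hbadx a y d ⟨ha, hy, hd, hy', hya.symm, hda, hdy, by rw [hya.eq] at hcon; exact hcon⟩
  set U := closure ((fun y => a * y) '' cl D a) with hU
  have hUK : U ≤ K := by
    rw [hU, closure_le]
    rintro _ ⟨y, hy, rfl⟩
    exact hin y hy.1 hy.2
  have hUc : U ≤ closure (cl D a) := by
    rw [hU, closure_le]
    rintro _ ⟨y, hy, rfl⟩
    exact mul_mem (subset_closure ⟨ha, Commute.refl a⟩) (subset_closure hy)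
  have habel : ∀ u ∈ closure (cl D a), ∀ v ∈ closure (cl D a), Commute u v := by
    intro u hu v hv
    refine (commute_of_closure (fun s hs => ?_) hu).symm
    exact (commute_of_closure (fun t ht => htr a ha s hs.1 t ht.1 hs.2.symm ht.2.symm) hv).symm
  have hU2 : IsPGroup 2 U := by
    rintro ⟨u, hu⟩
    refine ⟨1, Subtype.ext ?_⟩
    show u ^ 2 ^ 1 = 1
    rw [pow_one, sq]
    induction hu using closure_induction with
    | mem s hs =>
      obtain ⟨y, hy, rfl⟩ := hs
      exact commute_mul_self (h.inv a ha) (h.inv y hy.1) hy.2.symm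
    | one => exact mul_one 1
    | mul s t hs ht h1 h2 =>
      rw [Commute.mul_mul_mul_comm (habel t (hUc ht) s (hUc hs)), h1, h2, one_mul]
    | inv s _ h1 => rw [← mul_inv_rev, h1, inv_one]
  haveI hUn : (U.subgroupOf K).Normal := by
    refine normal_subgroupOf_of_le_normalizer fun g hg => ?_
    have key : ∀ g ∈ K, ∀ u ∈ U, g * u * g⁻¹ ∈ U := by
      intro g hg u hu
      have hle : U ≤ U.comap (MulAut.conj g).toMonoidHom := by
        rw [hU, closure_le]
        rintro _ ⟨y, hy, rfl⟩
        show g * (a * y) * g⁻¹ ∈ Subgroup.closure _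
        have h1 : g * a * g⁻¹ ∈ cl D a := ⟨hnor g a ha, hg a ha⟩
        have h2 : g * y * g⁻¹ ∈ cl D a := ⟨hnor g y hy.1,
          htr _ (hnor g a ha) _ (hnor g y hy.1) a ha (commute_conj g hy.2).symm (hg a ha)⟩
        have e : g * (a * y) * g⁻¹ = (a * (g * a * g⁻¹))⁻¹ * (a * (g * y * g⁻¹)) := by
          rw [mul_inv_rev, h.inv_eq ha, h.inv_eq h1.1,
            show g * a * g⁻¹ * a * (a * (g * y * g⁻¹)) = g * a * g⁻¹ * (a * a) * (g * y * g⁻¹) by group,
            h.inv a ha]
          group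
        rw [e]
        exact mul_mem (inv_mem (subset_closure ⟨_, h1, rfl⟩)) (subset_closure ⟨_, h2, rfl⟩)
      exact hle hu
    rw [mem_normalizer_iff]
    refine fun u => ⟨key g hg u, fun hu => ?_⟩
    have := key g⁻¹ (inv_mem hg) _ hu
    simpa [mul_assoc] using this
  have h2 : Fact (Nat.Prime 2) := ⟨Nat.prime_two⟩
  set N := (Cfsg.pCore 2 K).map K.subtype with hN
  haveI : N.Normal := ConjAct.normal_of_characteristic_of_normal
  haveI hNnil : Group.IsNilpotent N := (PCore.isPGroup_pCore.map K.subtype).isNilpotent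
  have hNbot := hsol N inferInstance inferInstance
  have hu1 : a * b ∈ N :=
    ⟨⟨a * b, hin b hb habc.symm⟩, PCore.le_pCore (N := U.subgroupOf K) (hN := hUn) (hU2.comap_subtype (K := K))
      (show (⟨a * b, _⟩ : K) ∈ U.subgroupOf K from
        subset_closure ⟨b, ⟨hb, habc.symm⟩, rfl⟩), rfl⟩
  rw [hNbot, mem_bot, mul_eq_one_iff_eq_inv, h.inv_eq hb] at hu1
  exact hab hu1

end Cfsg.Agent.RankThreeInvolutions
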