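import Cfsg.Agent.Lib.RankThreeInvolutions.Basic
import Cfsg.Agent.Lib.ZStar.Main
import Cfsg.Agent.Lib.ZStar.PPowerClass

/-!
# Sets of pairwise non-commuting members

`pairwise_nc`: a set of pairwise non-commuting members, closed under conjugation by its members, has
`p`-power size, and the products of its members lie in one `p`-subgroup.
-/

set_option autoImplicit false
set_option linter.style.haveILetI false

namespace Cfsg.Agent.RankThreeInvolutions

open Subgroup

variable {G : Type*} [Group G] [Finite G] {p : ℕ} {D : Set G}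

/-- Pairwise non-commuting subsets: size and products. -/
theorem Base.pairwise_nc (h : Base p D) {I : Set G} (hI : I ⊆ D) (hne : I.Nonempty)
    (hnc : ∀ x ∈ I, ∀ y ∈ I, x ≠ y → ¬ Commute x y)
    (hcl : ∀ x ∈ I, ∀ y ∈ I, y * x * y ∈ I) :
    (∃ k : ℕ, I.ncard = p ^ k) ∧
      ∃ P : Subgroup G, IsPGroup p P ∧ ∀ x ∈ I, ∀ y ∈ I, x * y ∈ P := by
  have := Fact.mk h.prime
  obtain ⟨d, hd⟩ := hne
  have hdD := hI hd
  set T := closure I with hT
  set dT : T := ⟨d, subset_closure hd⟩
  have hdo : orderOf dT = 2 := by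
    rw [Subgroup.orderOf_mk]
    exact orderOf_eq_prime (by rw [sq, h.inv d hdD]) (h.ne d hdD)
  have hst : ∀ g ∈ T, ∀ z ∈ I, g * z * g⁻¹ ∈ I ∧ g⁻¹ * z * g ∈ I := by
    intro g hg
    induction hg using closure_induction with
    | mem y hy =>
      intro z hz
      rw [h.inv_eq (hI hy)]
      exact ⟨hcl z hz y hy, hcl z hz y hy⟩
    | one => intro z hz; simpa using hz
    | mul x y _ _ hx hy =>
      intro z hz
      refine ⟨?_, ?_⟩
      · have := (hx _ (hy z hz).1).1
        convert this using 1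
        group
      · have := (hy _ (hx z hz).2).2
        convert this using 1
        group
    | inv x _ hx =>
      intro z hz
      exact ⟨by simpa using (hx z hz).2, by simpa using (hx z hz).1⟩
  have hclass : ∀ z ∈ conjugatesOf dT, (z : G) ∈ I := by
    intro z hz
    obtain ⟨g, rfl⟩ := isConj_iff.1 hz
    exact (hst g g.2 d hd).1
  have hprod : ∀ a ∈ conjugatesOf dT, ∀ b ∈ conjugatesOf dT, ∃ k : ℕ, orderOf (a * b) = p ^ k := by
    intro a ha b hb
    by_cases hab : (a : G) = b
    · refine ⟨0, ?_⟩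
      rw [pow_zero, orderOf_eq_one_iff, Subtype.ext hab]
      exact Subtype.ext (h.inv _ (hI (hclass b hb)))
    · refine ⟨1, ?_⟩
      rw [pow_one, ← Subgroup.orderOf_coe]
      exact h.orderOf_eq (hI (hclass a ha)) (hI (hclass b hb))
        (hnc _ (hclass a ha) _ (hclass b hb) hab)
  have hp2 : p ≠ 2 := by have := h.five; omega
  have hO := ZStar.PPowerClass.mul_mem_pCore h.prime hdo hprod
    (ZStar.inZStar (ZStar.PPowerClass.isolated_of_products h.prime hp2 hdo hprod))
  set P := (Cfsg.pCore p T).map T.subtype with hP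
  have hP2 : IsPGroup p P := PCore.isPGroup_pCore.map _
  -- every member is a conjugate of `d` by a power of a product
  have hconj : ∀ x, ∀ hx : x ∈ I, ∃ g : T, g * dT * g⁻¹ = ⟨x, subset_closure hx⟩ ∧
      ∃ i : ℕ, (g : G) = (x * d) ^ i := by
    intro x hx
    by_cases hxd : x = d
    · exact ⟨1, Subtype.ext (by simp [hxd, dT]), 0, by simp⟩
    · set r := x * d with hr
      have hrp : r ^ p = 1 := h.prod x (hI hx) d hdD (hnc x hx d hd hxd)
      set k := (p + 1) / 2
      refine ⟨⟨r ^ k, pow_mem (mul_mem (subset_closure hx) (subset_closure hd)) k⟩, Subtype.ext ?_,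
        k, rfl⟩
      show r ^ k * d * (r ^ k)⁻¹ = x
      have hinv : d * r * d⁻¹ = r⁻¹ := by
        rw [hr, mul_inv_rev, h.inv_eq hdD, h.inv_eq (hI hx),
          show d * (x * d) * d = d * x * (d * d) by group, h.inv d hdD, mul_one]
      calc r ^ k * d * (r ^ k)⁻¹ = r ^ k * (d * (r ^ k)⁻¹ * d⁻¹) * d := by group
        _ = r ^ k * r ^ k * d := by
          rw [← inv_pow, ← conj_pow, show d * r⁻¹ * d⁻¹ = r by
            rw [show d * r⁻¹ * d⁻¹ = (d * r * d⁻¹)⁻¹ by group, hinv, inv_inv]]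
        _ = r * d := by rw [h.half hrp]
        _ = x := by rw [hr, h.cancel' hdD]
  have hmemP : ∀ x ∈ I, x * d ∈ P := by
    intro x hx
    obtain ⟨g, hg, -⟩ := hconj x hx
    exact ⟨⟨x, subset_closure hx⟩ * dT, hO _ (isConj_iff.2 ⟨g, hg⟩) _ mem_conjugatesOf_self, rfl⟩
  refine ⟨?_, P, hP2, fun x hx y hy => ?_⟩
  · letI act : MulAction P G :=
      MulAction.compHom G (MulAut.conj.comp P.subtype : P →* MulAut G)
    have hsm : ∀ (g : P) (z : G), g • z = (g : G) * z * (g : G)⁻¹ := fun g z => rfl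
    obtain ⟨n, hn⟩ := hP2.card_orbit d
    refine ⟨n, ?_⟩
    rw [← hn, ← Nat.card_coe_set_eq]
    congr 2
    ext z
    refine ⟨fun hz => ?_, ?_⟩
    · obtain ⟨g, hg, i, hi⟩ := hconj z hz
      refine ⟨⟨(g : G), hi ▸ pow_mem (hmemP z hz) i⟩, ?_⟩
      exact (hsm _ _).trans (congrArg Subtype.val hg)
    · rintro ⟨⟨g, hg⟩, rfl⟩
      obtain ⟨y, -, rfl⟩ := hg
      exact (hst y y.2 d hd).1
  · have e : x * y = (x * d) * (y * d)⁻¹ := by
      rw [mul_inv_rev, h.inv_eq hdD, h.inv_eq (hI hy), ← mul_assoc, h.cancel' hdD]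
    rw [e]
    exact mul_mem (hmemP x hx) (inv_mem (hmemP y hy))

end Cfsg.Agent.RankThreeInvolutions
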