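import Cfsg.Prelude.Def_SporadicB
import Cfsg.Agent.Lib.RankThreeInvolutions.Main
import Cfsg.Agent.Lib.Involution.BaerSuzuki
import Cfsg.Agent.Lib.FTConsumers.Hyp

/-!
# A rank 3 class of involutions is a class of 3-transpositions

`isThreeTranspositionClass`: the statement S1617, given the odd order theorem.
-/

set_option autoImplicit false
set_option linter.style.haveILetI false

namespace Cfsg.Agent.RankThreeInvolutions

open Subgroup

universe u

variable {G : Type u} [Group G]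

theorem pow_line_mem {D : Set G} (hnor : ∀ g : G, ∀ a ∈ D, g * a * g⁻¹ ∈ D)
    (h2 : ∀ a ∈ D, a * a = 1) {a b : G} (ha : a ∈ D) (hb : b ∈ D) :
    ∀ j : ℕ, a * (a * b) ^ j ∈ D := by
  have hr : (a * b)⁻¹ = b * a := by
    rw [mul_inv_rev, inv_eq_of_mul_eq_one_right (h2 a ha), inv_eq_of_mul_eq_one_right (h2 b hb)]
  suffices key : ∀ j : ℕ, a * (a * b) ^ j ∈ D ∧ a * (a * b) ^ (j + 1) ∈ D from fun j => (key j).1
  intro j
  induction j with
  | zero =>
    refine ⟨by simpa using ha, ?_⟩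
    rw [pow_one, ← mul_assoc, h2 a ha, one_mul]
    exact hb
  | succ j ih =>
    refine ⟨ih.2, ?_⟩
    have e : a * (a * b) ^ (j + 1 + 1) = (a * b)⁻¹ * (a * (a * b) ^ j) * ((a * b)⁻¹)⁻¹ := by
      rw [inv_inv]
      calc a * (a * b) ^ (j + 1 + 1) = a * (a * b) * (a * b) ^ j * (a * b) := by
            rw [pow_succ, pow_succ']; simp only [mul_assoc]
        _ = (a * a) * b * (a * b) ^ j * (a * b) := by group
        _ = b * (a * a) * (a * b) ^ j * (a * b) := by rw [h2 a ha]; group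
        _ = (b * a) * (a * (a * b) ^ j) * (a * b) := by group
        _ = (a * b)⁻¹ * (a * (a * b) ^ j) * (a * b) := by rw [hr]
    rw [e]
    exact hnor _ _ ih.1

/-- S1617 given the odd order theorem. -/
theorem isThreeTranspositionClass (hFT : FTConsumers.OddOrder.{u}) [Finite G]
    (hsol : ∀ N : Subgroup G, N.Normal → Group.IsSolvable ↥N → N = ⊥) {D : Set G}
    (hinv : ∀ d ∈ D, orderOf d = 2) (hconj : ∃ d ∈ D, D = conjugatesOf d)
    (hgen : Subgroup.closure D = ⊤)
    (hrank : ∀ x ∈ D, ∃ y ∈ D, ∃ z ∈ D,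
      {w : G | ∃ g : G, Commute g x ∧ g * y * g⁻¹ = w} ≠ {w : G | ∃ g : G, Commute g x ∧ g * x * g⁻¹ = w} ∧
      {w : G | ∃ g : G, Commute g x ∧ g * z * g⁻¹ = w} ≠ {w : G | ∃ g : G, Commute g x ∧ g * x * g⁻¹ = w} ∧
      {w : G | ∃ g : G, Commute g x ∧ g * y * g⁻¹ = w} ≠ {w : G | ∃ g : G, Commute g x ∧ g * z * g⁻¹ = w} ∧
      D = {w : G | ∃ g : G, Commute g x ∧ g * x * g⁻¹ = w} ∪
        {w : G | ∃ g : G, Commute g x ∧ g * y * g⁻¹ = w} ∪
        {w : G | ∃ g : G, Commute g x ∧ g * z * g⁻¹ = w}) :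
    Cfsg.IsThreeTranspositionClass D := by
  obtain ⟨d₀, hd₀, hD⟩ := hconj
  have h2 : ∀ a ∈ D, a * a = 1 := fun a ha => by rw [← sq, ← hinv a ha, pow_orderOf_eq_one]
  have hconjall : ∀ a ∈ D, conjugatesOf a = D := fun a ha => by
    rw [hD] at ha ⊢
    exact (IsConj.conjugatesOf_eq (a := d₀) (b := a) ha).symm
  have hnor : ∀ g : G, ∀ a ∈ D, g * a * g⁻¹ ∈ D := fun g a ha =>
    (hconjall a ha).le (isConj_iff.2 ⟨g, rfl⟩)
  obtain ⟨y, hy, z, hz, hyx, hzx, hyz, hcov⟩ := hrank d₀ hd₀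
  have hyne : y ≠ d₀ := fun e => hyx (by subst e; rfl)
  have hzne : z ≠ d₀ := fun e => hzx (by subst e; rfl)
  set m₁ := orderOf (d₀ * y) with hm₁
  set m₂ := orderOf (d₀ * z) with hm₂
  have horb : ∀ (y : G) (w : G), (∃ g : G, Commute g d₀ ∧ g * y * g⁻¹ = w) →
      orderOf (d₀ * w) = orderOf (d₀ * y) := by
    rintro y w ⟨g, hg, rfl⟩
    rw [show d₀ * (g * y * g⁻¹) = g * (d₀ * y) * g⁻¹ by
      rw [← mul_assoc, ← mul_assoc, ← hg.eq]; group]
    exact (MulAut.conj g).orderOf_eq _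
  have hord : ∀ a ∈ D, ∀ b ∈ D, orderOf (a * b) = 1 ∨ orderOf (a * b) = m₁ ∨ orderOf (a * b) = m₂ := by
    intro a ha b hb
    obtain ⟨k, hk⟩ := isConj_iff.1 (show IsConj d₀ a from (hconjall d₀ hd₀).ge ha)
    have hb' : k⁻¹ * b * k ∈ D := by simpa using hnor k⁻¹ b hb
    have e : orderOf (a * b) = orderOf (d₀ * (k⁻¹ * b * k)) := by
      rw [show a * b = k * (d₀ * (k⁻¹ * b * k)) * k⁻¹ by rw [← hk]; group]
      exact (MulAut.conj k).orderOf_eq _
    rw [e]
    rw [hcov] at hb'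
    rcases hb' with (h | h) | h
    · left
      rw [horb d₀ _ h, orderOf_eq_one_iff, h2 d₀ hd₀]
    · exact Or.inr (Or.inl (horb y _ h))
    · exact Or.inr (Or.inr (horb z _ h))
  have hdiv : ∀ a ∈ D, ∀ b ∈ D, ∀ d, d ∣ orderOf (a * b) → d = 1 ∨ d = m₁ ∨ d = m₂ := by
    intro a ha b hb d hd
    have hmem := pow_line_mem hnor h2 ha hb (orderOf (a * b) / d)
    have e : a * (a * (a * b) ^ (orderOf (a * b) / d)) = (a * b) ^ (orderOf (a * b) / d) := by
      rw [← mul_assoc, h2 a ha, one_mul]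
    have := hord a ha _ hmem
    rwa [e, orderOf_pow_orderOf_div (orderOf_pos _).ne' hd] at this
  have hne1 : ∀ a ∈ D, ∀ b ∈ D, a ≠ b → orderOf (a * b) ≠ 1 := fun a ha b hb hab e => hab (by
    rw [orderOf_eq_one_iff, mul_eq_one_iff_eq_inv, inv_eq_of_mul_eq_one_right (h2 b hb)] at e
    exact e)
  have h3 : m₁ ≠ 1 := hne1 d₀ hd₀ y hy (Ne.symm hyne)
  have h4 : m₂ ≠ 1 := hne1 d₀ hd₀ z hz (Ne.symm hzne)
  by_cases hodd : Odd m₁ ∧ Odd m₂
  · exfalso
    have hiso : Cfsg.IsIsolatedInvolution d₀ := by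
      refine ⟨hinv d₀ hd₀, fun g hc => ?_⟩
      by_contra hne
      have hw := hnor g d₀ hd₀
      have hsq := commute_mul_self (h2 d₀ hd₀) (h2 _ hw) hc
      have h1 : orderOf (d₀ * (g * d₀ * g⁻¹)) ∣ 2 :=
        orderOf_dvd_of_pow_eq_one (by rw [sq]; exact hsq)
      rcases (Nat.dvd_prime Nat.prime_two).1 h1 with e | e
      · exact hne1 d₀ hd₀ _ hw (Ne.symm hne) e
      · rcases hord d₀ hd₀ _ hw with e' | e' | e' <;> rw [e] at e'
        · exact absurd e' (by norm_num)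
        · exact absurd (e' ▸ hodd.1) (by decide)
        · exact absurd (e' ▸ hodd.2) (by decide)
    have hO : Cfsg.pPrimeCore 2 G = ⊥ :=
      hsol _ PCore.pPrimeCore_normal (hFT _ (Nat.coprime_two_right.1 PCore.coprime_card_pPrimeCore))
    obtain ⟨g, hg⟩ := isConj_iff.1 (show IsConj d₀ y from (hconjall d₀ hd₀).ge hy)
    have h5 := ZStar.inZStar hiso g
    rw [hO, mem_bot, hg, mul_inv_eq_one] at h5
    exact hyne h5
  have hev : 2 ∣ m₁ ∨ 2 ∣ m₂ := by
    rw [not_and_or, Nat.not_odd_iff_even, Nat.not_odd_iff_even, even_iff_two_dvd,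
      even_iff_two_dvd] at hodd
    exact hodd
  have h2mem : m₁ = 2 ∨ m₂ = 2 := by
    rcases hev with e | e
    · rcases hdiv d₀ hd₀ y hy 2 e with e' | e' | e'
      exacts [absurd e' (by norm_num), Or.inl e'.symm, Or.inr e'.symm]
    · rcases hdiv d₀ hd₀ z hz 2 e with e' | e' | e'
      exacts [absurd e' (by norm_num), Or.inl e'.symm, Or.inr e'.symm]
  -- the second order
  have main : ∀ (u v : G) (n : ℕ), u ∈ D → v ∈ D → v ≠ d₀ → orderOf (d₀ * u) = 2 →
      orderOf (d₀ * v) = n →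
      (∀ a ∈ D, ∀ b ∈ D, orderOf (a * b) = 1 ∨ orderOf (a * b) = 2 ∨ orderOf (a * b) = n) →
      (∀ w, ∀ w', w ∈ D → w' ∈ D → orderOf (d₀ * w) = 2 → orderOf (d₀ * w') = 2 → n ≠ 2 →
        ∃ g : G, Commute g d₀ ∧ g * w * g⁻¹ = w') →
      Cfsg.IsThreeTranspositionClass D := by
    intro u v n hu hv hvne hu2 hvn hordn htrans
    refine ⟨⟨hinv, fun a ha b hb => ?_⟩, ⟨d₀, hd₀, hD⟩, hgen⟩
    by_cases hn23 : n = 2 ∨ n = 3
    · rcases hordn a ha b hb with e | e | e
      · left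
        rw [orderOf_eq_one_iff.1 e, one_pow]
      · left
        rw [← e, pow_orderOf_eq_one]
      · rcases hn23 with e' | e' <;> rw [e'] at e
        · left; rw [← e, pow_orderOf_eq_one]
        · right; rw [← e, pow_orderOf_eq_one]
    exfalso
    push Not at hn23
    have hn1 : n ≠ 1 := hvn ▸ hne1 d₀ hd₀ v hv (Ne.symm hvne)
    have hn0 : n ≠ 0 := hvn ▸ (orderOf_pos _).ne'
    have hdn : ∀ d, d ∣ n → d = 1 ∨ d = 2 ∨ d = n := by
      intro d hd
      have hmem := pow_line_mem hnor h2 hd₀ hv (n / d)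
      have := hordn d₀ hd₀ _ hmem
      rw [← mul_assoc, h2 d₀ hd₀, one_mul, ← hvn, orderOf_pow_orderOf_div (orderOf_pos _).ne'
        (hvn.symm ▸ hd), hvn] at this
      exact this
    by_cases h2n : 2 ∣ n
    · -- `n = 4`: Baer–Suzuki
      have hn4 : n = 4 := by
        obtain ⟨k, rfl⟩ := h2n
        rcases hdn k (Dvd.intro_left 2 rfl) with e | e | e
        · exact absurd (by rw [e]) hn23.1
        · rw [e]
        · omega
      have : Fact (Nat.Prime 2) := ⟨Nat.prime_two⟩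
      have hp := Involution.baer_suzuki_set (p := 2) D hnor fun a ha b hb => by
        refine Involution.isPGroup_closure_pair (a := 2) (h2 a ha) (h2 b hb) ?_
        refine orderOf_dvd_iff_pow_eq_one.1 ?_
        rcases hordn a ha b hb with e | e | e <;> rw [e] <;> [norm_num; norm_num; (rw [hn4]; norm_num)]
      rw [hgen] at hp
      haveI := hp.isNilpotent
      have htop : Group.IsSolvable (⊤ : Subgroup G) := inferInstance
      have hbot := hsol ⊤ inferInstance htop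
      have : d₀ ∈ (⊥ : Subgroup G) := hbot ▸ mem_top d₀
      rw [mem_bot] at this
      have := hinv d₀ hd₀
      simp [*] at this
    -- `n` is a prime `p ≥ 5`
    have hp : n.Prime := by
      refine Nat.prime_def.2 ⟨by omega, fun d hd => ?_⟩
      rcases hdn d hd with e | e | e
      exacts [Or.inl e, absurd (e ▸ hd) h2n, Or.inr e]
    have hB : Base n D := by
      refine ⟨hp, ?_, h2, fun a ha e => ?_, fun a ha b hb => ?_, fun a ha b hb hab => ?_⟩
      · by_contra hlt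
        have := hp.two_le
        interval_cases n
        · exact h2n dvd_rfl
        · exact hn23.2 rfl
        · exact absurd hp (by norm_num)
      · have := hinv a ha
        simp [e] at this
      · have := hnor b a ha
        rwa [inv_eq_of_mul_eq_one_right (h2 b hb)] at this
      · rcases hordn a ha b hb with e | e | e
        · exfalso
          refine hab ?_
          rw [orderOf_eq_one_iff, mul_eq_one_iff_eq_inv, inv_eq_of_mul_eq_one_right (h2 b hb)] at e
          rw [e]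
        · exfalso
          refine hab ?_
          have e' : a * b * (a * b) = 1 := by rw [← sq, ← e, pow_orderOf_eq_one]
          have h1 := inv_eq_of_mul_eq_one_right e'
          rw [mul_inv_rev, inv_eq_of_mul_eq_one_right (h2 a ha), inv_eq_of_mul_eq_one_right (h2 b hb)] at h1
          exact h1.symm
        · rw [← e, pow_orderOf_eq_one]
    have hcomm2 : ∀ w ∈ D, w ≠ d₀ → Commute d₀ w → orderOf (d₀ * w) = 2 := fun w hw hne hc => by
      have h1 : orderOf (d₀ * w) ∣ 2 := orderOf_dvd_of_pow_eq_one (by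
        rw [sq]; exact commute_mul_self (h2 d₀ hd₀) (h2 w hw) hc)
      exact ((Nat.dvd_prime Nat.prime_two).1 h1).resolve_left (hne1 d₀ hd₀ w hw (Ne.symm hne))
    refine false_of_rank_three hB hconjall hgen ?_ hsol ⟨d₀, hd₀, u, hu, ?_, ?_⟩
    · intro x hx w hw w' hw' hwx hc hw'x hc'
      obtain ⟨k, hk⟩ := isConj_iff.1 (show IsConj d₀ x from (hconjall d₀ hd₀).ge hx)
      have hm : ∀ t, t ∈ D → t ≠ x → Commute x t →
          k⁻¹ * t * k ∈ D ∧ orderOf (d₀ * (k⁻¹ * t * k)) = 2 := by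
        intro t ht htx hct
        have h1 : k⁻¹ * t * k ∈ D := by simpa using hnor k⁻¹ t ht
        refine ⟨h1, hcomm2 _ h1 (fun e => htx (by rw [← hk, ← e]; group)) ?_⟩
        have := commute_conj k⁻¹ hct
        rw [← hk, show k⁻¹ * (k * d₀ * k⁻¹) * k⁻¹⁻¹ = d₀ by group, inv_inv] at this
        exact this
      obtain ⟨h1, h1'⟩ := hm w hw hwx hc
      obtain ⟨h2', h2''⟩ := hm w' hw' hw'x hc'
      obtain ⟨g, hg, he⟩ := htrans _ _ h1 h2' h1' h2'' hn23.1
      refine ⟨k * g * k⁻¹, ?_, ?_⟩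
      · rw [← hk]; exact commute_conj k hg
      · calc k * g * k⁻¹ * w * (k * g * k⁻¹)⁻¹ = k * (g * (k⁻¹ * w * k) * g⁻¹) * k⁻¹ := by group
          _ = w' := by rw [he]; group
    · intro e
      rw [← e, h2 d₀ hd₀, orderOf_one] at hu2
      exact absurd hu2 (by norm_num)
    · have e : d₀ * u * (d₀ * u) = 1 := by rw [← sq, ← hu2, pow_orderOf_eq_one]
      have h1 := inv_eq_of_mul_eq_one_right e
      rw [mul_inv_rev, inv_eq_of_mul_eq_one_right (h2 d₀ hd₀), inv_eq_of_mul_eq_one_right (h2 u hu)] at h1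
      exact h1.symm
  have htr : ∀ (a b : G) (n : ℕ), orderOf (d₀ * a) = 2 → orderOf (d₀ * b) = n →
      D = {w : G | ∃ g : G, Commute g d₀ ∧ g * d₀ * g⁻¹ = w} ∪
        {w : G | ∃ g : G, Commute g d₀ ∧ g * a * g⁻¹ = w} ∪
        {w : G | ∃ g : G, Commute g d₀ ∧ g * b * g⁻¹ = w} →
      ∀ w w', w ∈ D → w' ∈ D → orderOf (d₀ * w) = 2 → orderOf (d₀ * w') = 2 → n ≠ 2 →
        ∃ g : G, Commute g d₀ ∧ g * w * g⁻¹ = w' := by
    intro a b n ha hb hc w w' hw hw' hw2 hw'2 hn
    have key : ∀ t ∈ D, orderOf (d₀ * t) = 2 → ∃ g : G, Commute g d₀ ∧ g * a * g⁻¹ = t := by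
      intro t ht ht2
      rw [hc] at ht
      rcases ht with (h | h) | h
      · exfalso
        rw [horb d₀ t h, h2 d₀ hd₀, orderOf_one] at ht2
        exact absurd ht2 (by norm_num)
      · exact h
      · exfalso
        rw [horb b t h, hb] at ht2
        exact hn ht2
    obtain ⟨g, hg, rfl⟩ := key w hw hw2
    obtain ⟨g', hg', rfl⟩ := key w' hw' hw'2
    exact ⟨g' * g⁻¹, hg'.mul_left hg.inv_left, by group⟩
  rcases h2mem with e | e
  · exact main y z m₂ hy hz hzne e rfl (fun a ha b hb => e ▸ hord a ha b hb) (htr y z m₂ e rfl hcov)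
  · refine main z y m₁ hz hy hyne e rfl (fun a ha b hb => ?_) (htr z y m₁ e rfl ?_)
    · rcases hord a ha b hb with h | h | h
      exacts [Or.inl h, Or.inr (Or.inr h), Or.inr (Or.inl (h.trans e))]
    · rw [Set.union_assoc, Set.union_comm {w : G | ∃ g : G, Commute g d₀ ∧ g * z * g⁻¹ = w},
        ← Set.union_assoc]
      exact hcov

end Cfsg.Agent.RankThreeInvolutions
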